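import Cfsg.Agent.Lib.Schur.MinusOrth.EvenWords
import Cfsg.Agent.Lib.Schur.MinusOrth.General
import Cfsg.Agent.Lib.KnownA.SpMultiplier.Main
import Cfsg.Agent.Lib.Orth.WittIndex

/-!
# Perfect central extensions of `Ω⁻_{2k+2}(q)`, `q` even, are trivial
-/

set_option autoImplicit false
set_option linter.unusedSectionVars false

open Matrix QuadraticMap Module CfsgLib.Orth CfsgLib.Classical CfsgLib.Schur.OddOrth
open scoped commutatorElement

namespace CfsgLib.Schur.MinusOrth

universe v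

section
variable {F : Type*} [Field F] [Fintype F] [CharP F 2] {k : ℕ} {a b : F}
  (hab : ∀ z₁ z₂ : F, z₁ ^ 2 + a * z₁ * z₂ + b * z₂ ^ 2 = 0 → z₁ = 0 ∧ z₂ = 0) (hk : 3 ≤ k)
include hab hk

/-- The kernel lies in any subgroup over the stabilizer of a point. -/
theorem ker_le_even (v0 : Pt (minusForm F k a b)) {E : Type v} [Group E] (hE : commutator E = ⊤)
    (ξ : E →* ↥(commutator (orthGroup (minusForm F k a b)))) (hs : Function.Surjective ξ)
    (hkE : ξ.ker ≤ Subgroup.center E) {M : Subgroup E}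
    (hM : M.map ξ = MulAction.stabilizer ↥(commutator (orthGroup (minusForm F k a b))) v0) : ξ.ker ≤ M := by
  have hn : finrank F ((Fin k ⊕ Fin k) ⊕ Fin 2 → F) = 2 * k + 2 := by
    simp [Module.finrank_pi]; ring
  exact ker_le_of_graphT hM hkE (orthGraph2 (minusForm_nondeg k a b hab) (by rw [hn]; omega) (fun h U hU => by
    have := CfsgLib.Orth.minus_singular_finrank_le hab U hU
    rw [hn] at h
    omega) v0) hs hE

/-- The kernel is trivial away from `Ω₈⁻(2)`. -/
theorem ker_eq_bot_even (h2 : Fintype.card F = 2 → 4 ≤ k) {E : Type v} [Group E] (hE : commutator E = ⊤)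
    (ξ : E →* ↥(commutator (orthGroup (minusForm F k a b)))) (hs : Function.Surjective ξ)
    (hkE : ξ.ker ≤ Subgroup.center E) : ξ.ker = ⊥ := by
  classical
  let v0 : Pt (minusForm F k a b) := ⟨Pi.single (Sum.inr 0) 1, by
    rw [← minusForm_apply]; simp [Cfsg.quadFormMinus, Pi.single_apply]⟩
  obtain ⟨Φ, -⟩ := exists_stab_two hab hk v0 rfl
  let St := MulAction.stabilizer ↥(commutator (orthGroup (minusForm F k a b))) v0
  let N := St.comap ξ
  let η : N →* symplecticGroup (Fin k) F :=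
    Φ.toMonoidHom.comp ((ξ.comp N.subtype).codRestrict St fun x => x.2)
  have hη : ∀ x : N, (Φ.symm (η x)).1 = ξ x := fun x => by
    show (Φ.symm (Φ _)).1 = _
    rw [MulEquiv.symm_apply_apply]
    rfl
  have hηs : Function.Surjective η := fun g => by
    obtain ⟨x, hx⟩ := hs (Φ.symm g).1
    exact ⟨⟨x, by show ξ x ∈ St; rw [hx]; exact (Φ.symm g).2⟩,
      Φ.symm.injective (Subtype.ext (by rw [hη]; exact hx))⟩
  have hηk : η.ker ≤ Subgroup.center N := fun x hx => by
    have h1 : (x : E) ∈ ξ.ker := by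
      rw [MonoidHom.mem_ker, ← hη, MonoidHom.mem_ker.1 hx, map_one]; rfl
    exact Subgroup.mem_center_iff.2 fun y => Subtype.ext (Subgroup.mem_center_iff.1 (hkE h1) y)
  obtain ⟨s, hsec⟩ := KnownA.SpMultiplier.exists_section hηs hηk (show KnownA.SpMultiplier.Allowed F k from
    ⟨by omega, h2⟩)
  have hξs : ∀ g, ξ (s g : E) = (Φ.symm g).1 := fun g => by rw [← hη, hsec]
  have hM : (N.subtype.comp s).range.map ξ = St := by
    ext g
    constructor
    · rintro ⟨_, ⟨y, rfl⟩, rfl⟩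
      exact (s y).2
    · intro hg
      refine ⟨_, ⟨Φ ⟨g, hg⟩, rfl⟩, ?_⟩
      show ξ (s _ : E) = g
      rw [hξs, MulEquiv.symm_apply_apply]
  have hle := ker_le_even hab hk v0 hE ξ hs hkE hM
  refine eq_bot_iff.2 fun x hx => ?_
  obtain ⟨y, rfl⟩ := hle hx
  have h1 : (Φ.symm y).1 = 1 := (hξs y).symm.trans hx
  have h2 : y = 1 := Φ.symm.injective (Subtype.ext (h1.trans (by rw [map_one]; rfl)))
  rw [Subgroup.mem_bot, h2, map_one]

end

namespace Two

/-- Perfect central extensions of `Sp₆(2)` have kernel at most of order two. -/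
theorem card_ker_sp (E : Type) [Group E] (hE : commutator E = ⊤) (τ : E →* Sporadic.SpSix.G)
    (hs : Function.Surjective τ) (hk : τ.ker ≤ Subgroup.center E) : Finite τ.ker ∧ Nat.card τ.ker ≤ 2 := by
  haveI : Finite Sporadic.SpSix.G := Nat.finite_of_card_ne_zero (by rw [Sporadic.SpSix.card_G]; norm_num)
  obtain ⟨hfin, hdvd⟩ := Basic.card_ker_le_card_mult τ ⟨hs, hk, hE ▸ le_top⟩
  obtain ⟨e⟩ := Basic.mult_equiv Sporadic.SpSix.hasMultiplier
  rw [Nat.card_congr e.toEquiv, Nat.card_congr Multiplicative.toAdd, Nat.card_zmod] at hdvd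
  exact ⟨hfin, Nat.le_of_dvd two_pos hdvd⟩

/-- Commuting lifts of two commuting involutions split a perfect central extension of `Sp₆(2)`. -/
theorem ker_eq_bot_sp {M : Type} [Group M] (hM : commutator M = ⊤) (τ : M →* Sporadic.SpSix.G)
    (hs : Function.Surjective τ) (hk : τ.ker ≤ Subgroup.center M) (m m' : M)
    (hm : ∀ x, (τ m).1 *ᵥ x = SpTwo.fOne x) (hm' : ∀ x, (τ m').1 *ᵥ x = SpTwo.fTwo x)
    (hcomm : ⁅m, m'⁆ = 1) : τ.ker = ⊥ := by
  classical
  haveI : Finite Sporadic.SpSix.G := Nat.finite_of_card_ne_zero (by rw [Sporadic.SpSix.card_G]; norm_num)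
  haveI := Sporadic.SpSix.isSimple_G
  have hG : commutator Sporadic.SpSix.G = ⊤ := by
    rw [← Subgroup.map_top_of_surjective τ hs, ← hM, _root_.commutator_def, _root_.commutator_def,
      Subgroup.map_commutator, Subgroup.map_top_of_surjective τ hs]
  obtain ⟨Γ, _, _, σ, hσ, hcard, y, y', hy, hy', hle⟩ := SpTwo.exists_cover (τ m) (τ m') hm hm'
  let P : Subgroup (M × Γ) :=
    { carrier := {p | τ p.1 = σ p.2}
      one_mem' := by simp
      mul_mem' := fun {p q} hp hq => by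
        show τ (p.1 * q.1) = σ (p.2 * q.2)
        rw [map_mul, map_mul, hp, hq]
      inv_mem' := fun {p} hp => by
        show τ p.1⁻¹ = σ p.2⁻¹
        rw [map_inv, map_inv, hp] }
  let π : P →* Γ := (MonoidHom.snd M Γ).comp P.subtype
  have hπ : Function.Surjective π := fun g => by
    obtain ⟨x, hx⟩ := hs (σ g)
    exact ⟨⟨(x, g), hx⟩, rfl⟩
  have hπk : π.ker ≤ Subgroup.center P := fun p hp => Subgroup.mem_center_iff.2 fun q => Subtype.ext (by
    have h1 : p.1.2 = 1 := hp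
    have h2 : p.1.1 ∈ τ.ker := by
      rw [MonoidHom.mem_ker, show τ p.1.1 = σ p.1.2 from p.2, h1, map_one]
    exact Prod.ext (Subgroup.mem_center_iff.1 (hk h2) _) (by
      show q.1.2 * p.1.2 = p.1.2 * q.1.2
      rw [h1, mul_one, one_mul]))
  obtain ⟨s, hsec⟩ := exists_section hG σ hσ.1 hσ.2.1 hσ.2.2
    (fun E _ hE ξ hξ hξk => by rw [hcard]; exact card_ker_sp E hE ξ hξ hξk) P π hπ hπk
  let ψ : Γ →* M := (MonoidHom.fst M Γ).comp (P.subtype.comp s)
  have hψ : ∀ g, τ (ψ g) = σ g := fun g => (s g).2.trans (congrArg σ (hsec g))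
  have hrange : ψ.range = ⊤ := by
    rw [eq_top_iff, ← hM]
    have h1 : ψ.range ⊔ Subgroup.center M = ⊤ := by
      rw [eq_top_iff]
      intro x _
      obtain ⟨g, hg⟩ := hσ.1 (τ x)
      rw [show x = ψ g * ((ψ g)⁻¹ * x) by group]
      exact mul_mem (Subgroup.mem_sup_left ⟨g, rfl⟩) (Subgroup.mem_sup_right (hk (by
        rw [MonoidHom.mem_ker, map_mul, map_inv, hψ, hg, inv_mul_cancel])))
    exact (Basic.commutator_le_map_of_sup_center ψ h1).trans (Subgroup.map_le_range _ _)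
  have hc : ψ ⁅y, y'⁆ = 1 := by
    rw [map_commutatorElement, KnownA.SpMultiplier.Pairing.comm_congr hk (a' := m) (b' := m')
      (by rw [hψ, hy]) (by rw [hψ, hy'])]
    exact hcomm
  refine eq_bot_iff.2 fun x hx => ?_
  obtain ⟨g, rfl⟩ : x ∈ ψ.range := hrange ▸ Subgroup.mem_top x
  have hg : g ∈ σ.ker := by rw [MonoidHom.mem_ker, ← hψ]; exact hx
  obtain ⟨n, hn⟩ := Subgroup.mem_zpowers_iff.1 (hle hg)
  rw [Subgroup.mem_bot, ← hn, map_zpow, hc, _root_.one_zpow]

set_option maxHeartbeats 3200000 in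
/-- The exceptional case. -/
theorem ker_eq_bot {E : Type} [Group E] (hE : commutator E = ⊤)
    (ξ : E →* ↥(commutator (orthGroup (minusForm (ZMod 2) 3 1 1)))) (hs : Function.Surjective ξ)
    (hkE : ξ.ker ≤ Subgroup.center E) : ξ.ker = ⊥ := by
  classical
  have hab : ∀ z₁ z₂ : ZMod 2, z₁ ^ 2 + 1 * z₁ * z₂ + 1 * z₂ ^ 2 = 0 → z₁ = 0 ∧ z₂ = 0 := by decide
  have hQ : (QuadraticMap.polarBilin (minusForm (ZMod 2) 3 1 1)).Nondegenerate :=
    minusForm_nondeg 3 1 1 hab
  have hn : finrank (ZMod 2) V8 = 8 := by simp [Module.finrank_pi]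
  have h4 : Good (ZMod 2) V8 := good_of (Or.inr (by omega))
  obtain ⟨κ, hκ⟩ := exists_dickson (Q := minusForm (ZMod 2) 3 1 1) hQ
  have hword : ∀ L ∈ [wOne, wTwo, wThree, wZ, wS], el L ∈ commutator (orthGroup (minusForm (ZMod 2) 3 1 1)) := by
    intro L hL
    obtain ⟨hq, hlen⟩ := words_ok L hL
    rw [mem_commutator_two hQ h4 κ hκ]
    have h : ∀ L : List V8, (∀ p ∈ L, q8 p = 1) → κ (el L) = Multiplicative.ofAdd (L.length : ZMod 2) := by
      intro L
      induction L with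
      | nil => intro _; simp [el]
      | cons p L ih =>
        intro h
        rw [el_cons, map_mul, ih (fun q hq => h q (List.mem_cons_of_mem p hq)), hκ p (by
          rw [← minusForm_apply]
          exact fun h0 => one_ne_zero ((h p List.mem_cons_self).symm.trans h0)), ← ofAdd_add, List.length_cons, Nat.cast_succ, add_comm]
    rw [h L hq, ← ZMod.natCast_mod, hlen, Nat.cast_zero, ofAdd_zero]
  choose E' hE' using hs
  let x1 := E' ⟨el wOne, hword _ (by simp)⟩
  let xz := E' ⟨el wZ, hword _ (by simp)⟩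
  let s := E' ⟨el wS, hword _ (by simp)⟩
  let x2 := s * x1 * s⁻¹
  let x3 := s * x2 * s⁻¹
  have happ : ∀ L ∈ [wOne, wTwo, wThree, wZ, wS], ∀ x, (el L).1 x = evalL L x := fun L hL =>
    el_apply L (words_ok L hL).1
  have ext' : ∀ g h : ↥(commutator (orthGroup (minusForm (ZMod 2) 3 1 1))), (∀ x, g.1.1 x = h.1.1 x) → g = h :=
    fun g h hgh => Subtype.ext (Subtype.ext (LinearEquiv.ext hgh))
  have e1 : ξ x1 = ⟨el wOne, hword _ (by simp)⟩ := hE' _
  have ez : ξ xz = ⟨el wZ, hword _ (by simp)⟩ := hE' _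
  have es : ξ s = ⟨el wS, hword _ (by simp)⟩ := hE' _
  have e2 : ξ x2 = ⟨el wTwo, hword _ (by simp)⟩ := by
    rw [map_mul, map_mul, map_inv, e1, es, mul_inv_eq_iff_eq_mul]
    refine ext' _ _ fun x => ?_
    show (el wS).1 ((el wOne).1 x) = (el wTwo).1 ((el wS).1 x)
    rw [happ _ (by simp), happ _ (by simp), happ _ (by simp), happ _ (by simp)]
    exact rel_one x
  have e3 : ξ x3 = ⟨el wThree, hword _ (by simp)⟩ := by
    rw [map_mul, map_mul, map_inv, e2, es, mul_inv_eq_iff_eq_mul]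
    refine ext' _ _ fun x => ?_
    show (el wS).1 ((el wTwo).1 x) = (el wThree).1 ((el wS).1 x)
    rw [happ _ (by simp), happ _ (by simp), happ _ (by simp), happ _ (by simp)]
    exact rel_two x
  have e12 : ξ x3 = ξ (x1 * x2) := by
    rw [e3, map_mul, e1, e2]
    refine ext' _ _ fun x => ?_
    show (el wThree).1 x = (el wOne).1 ((el wTwo).1 x)
    rw [happ _ (by simp), happ _ (by simp), happ _ (by simp)]
    exact (rel_prod x).symm
  have esz : ξ (s * xz * s⁻¹) = ξ xz := by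
    rw [map_mul, map_mul, map_inv, ez, es, mul_inv_eq_iff_eq_mul]
    refine ext' _ _ fun x => ?_
    show (el wS).1 ((el wZ).1 x) = (el wZ).1 ((el wS).1 x)
    rw [happ _ (by simp), happ _ (by simp), happ _ (by simp), happ _ (by simp)]
    exact rel_z x
  set f := ⁅x1, xz⁆ with hf
  have hfk : f ∈ ξ.ker := by
    rw [MonoidHom.mem_ker, map_commutatorElement, commutatorElement_eq_one_iff_mul_comm, e1, ez]
    refine ext' _ _ fun x => ?_
    show (el wOne).1 ((el wZ).1 x) = (el wZ).1 ((el wOne).1 x)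
    rw [happ _ (by simp), happ _ (by simp), happ _ (by simp), happ _ (by simp)]
    exact rel_comm x
  have hfc := Subgroup.mem_center_iff.1 (hkE hfk)
  have hconj : ∀ u, ⁅s * u * s⁻¹, xz⁆ = s * ⁅u, xz⁆ * s⁻¹ := fun u => by
    rw [conjugate_commutatorElement]
    exact KnownA.SpMultiplier.Pairing.comm_congr hkE rfl esz.symm
  have f2 : ⁅x2, xz⁆ = f := by
    show ⁅s * x1 * s⁻¹, xz⁆ = f
    rw [hconj, ← hf, hfc, mul_inv_cancel_right]
  have f3 : ⁅x3, xz⁆ = f := by
    show ⁅s * x2 * s⁻¹, xz⁆ = f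
    rw [hconj, f2, hfc, mul_inv_cancel_right]
  have f12 : ⁅x1 * x2, xz⁆ = f * f := by
    rw [show ⁅x1 * x2, xz⁆ = x1 * ⁅x2, xz⁆ * x1⁻¹ * ⁅x1, xz⁆ by simp only [commutatorElement_def]; group,
      f2, ← hf, hfc x1, mul_inv_cancel_right]
  have hf1 : f = 1 := by
    have h := (KnownA.SpMultiplier.Pairing.comm_congr hkE e12 (rfl : ξ xz = ξ xz)).symm.trans f3
    rw [f12] at h
    exact mul_right_cancel (h.trans (one_mul f).symm)
  -- the stabilizer of the base point
  let v0 : Pt (minusForm (ZMod 2) 3 1 1) := ⟨zOne, by rw [← minusForm_apply]; decide⟩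
  obtain ⟨Φ, hΦ⟩ := exists_stab_two hab le_rfl v0 rfl
  let St := MulAction.stabilizer ↥(commutator (orthGroup (minusForm (ZMod 2) 3 1 1))) v0
  let N := St.comap ξ
  let η : N →* Sporadic.SpSix.G :=
    Φ.toMonoidHom.comp ((ξ.comp N.subtype).codRestrict St fun x => x.2)
  have hη : ∀ x : N, (Φ.symm (η x)).1 = ξ x := fun x => by
    show (Φ.symm (Φ _)).1 = _
    rw [MulEquiv.symm_apply_apply]
    rfl
  have hηs : Function.Surjective η := fun g => by
    refine ⟨⟨E' (Φ.symm g).1, by show ξ _ ∈ St; rw [hE']; exact (Φ.symm g).2⟩,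
      Φ.symm.injective (Subtype.ext ?_)⟩
    rw [hη]; exact hE' _
  have hηk : η.ker ≤ Subgroup.center N := fun x hx => by
    have h1 : (x : E) ∈ ξ.ker := by
      rw [MonoidHom.mem_ker, ← hη, MonoidHom.mem_ker.1 hx, map_one]; rfl
    exact Subgroup.mem_center_iff.2 fun y => Subtype.ext (Subgroup.mem_center_iff.1 (hkE h1) y)
  haveI := Sporadic.SpSix.isSimple_G
  have hG : commutator Sporadic.SpSix.G = ⊤ :=
    ((commutator Sporadic.SpSix.G).normal_of_characteristic.eq_bot_or_eq_top).resolve_left fun h => by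
      have hall : ∀ g h' : Sporadic.SpSix.G, g * h' = h' * g := fun g h' =>
        commutatorElement_eq_one_iff_mul_comm.1 (Subgroup.mem_bot.1
          (h ▸ Subgroup.commutator_mem_commutator (Subgroup.mem_top g) (Subgroup.mem_top h')))
      have hc : Subgroup.center Sporadic.SpSix.G = ⊤ :=
        eq_top_iff.2 fun g _ => Subgroup.mem_center_iff.2 fun h' => hall h' g
      exact bot_ne_top (Sporadic.SpSix.center_eq.symm.trans hc)
  obtain ⟨hmap, hperf⟩ := derived_spec hG η hηs hηk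
  have hMmap : ((commutator N).map N.subtype).map ξ = St := by
    ext h
    constructor
    · rintro ⟨_, ⟨x, -, rfl⟩, rfl⟩
      exact x.2
    · intro hh
      obtain ⟨x, hx, hxg⟩ : Φ ⟨h, hh⟩ ∈ (commutator N).map η := hmap ▸ Subgroup.mem_top _
      refine ⟨x, ⟨x, hx, rfl⟩, ?_⟩
      rw [← hη, hxg, MulEquiv.symm_apply_apply]
  have hle := ker_le_even hab le_rfl v0 hE ξ (fun g => ⟨E' g, hE' g⟩) hkE hMmap
  let τ : commutator N →* Sporadic.SpSix.G := η.comp (commutator N).subtype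
  have hτs : Function.Surjective τ := fun g => by
    obtain ⟨x, hx, rfl⟩ : g ∈ (commutator N).map η := hmap ▸ Subgroup.mem_top g
    exact ⟨⟨x, hx⟩, rfl⟩
  have hτk : τ.ker ≤ Subgroup.center _ := fun x hx => Subgroup.mem_center_iff.2 fun y =>
    Subtype.ext (Subgroup.mem_center_iff.1 (hηk (show (x : N) ∈ η.ker from hx)) y)
  have hlift : ∀ L ∈ [wOne, wTwo, wThree, wZ, wS], evalL L zOne = zOne → ∀ u : E, (ξ u).1 = el L →
      ∃ m : commutator N, ((m : N) : E) = u ∧
        ∀ x, (τ m).1 *ᵥ x = fun i => evalL L (Sum.elim x 0) (.inl i) := by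
    intro L hL hfix u hu
    have hst : ξ u ∈ St := by
      refine Subtype.ext ?_
      show (ξ u).1.1 zOne = zOne
      rw [hu, happ L hL, hfix]
    obtain ⟨_, ⟨x, hx, rfl⟩, hxu⟩ : ξ u ∈ ((commutator N).map N.subtype).map ξ := hMmap ▸ hst
    have hxu' : ξ (x : E) = ξ u := hxu
    have hker : (x : E)⁻¹ * u ∈ ξ.ker := by rw [MonoidHom.mem_ker, map_mul, map_inv, hxu', inv_mul_cancel]
    obtain ⟨y, hy, hyu⟩ : u ∈ (commutator N).map N.subtype := by
      rw [show u = (x : E) * ((x : E)⁻¹ * u) by group]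
      exact mul_mem ⟨x, hx, rfl⟩ (hle hker)
    refine ⟨⟨y, hy⟩, hyu, fun z => ?_⟩
    show (Φ _).1 *ᵥ z = _
    rw [hΦ]
    show planeOff 3 ((ξ (y : E)).1.1 (planeIn 3 z)) = _
    rw [show (y : E) = u from hyu, hu, happ L hL]
    rfl
  obtain ⟨m, hm, hm1⟩ := hlift wOne (by simp) fix_base.1 x1 (congrArg Subtype.val e1)
  obtain ⟨m', hm', hm1'⟩ := hlift wZ (by simp) fix_base.2 xz (congrArg Subtype.val ez)
  have hτ := ker_eq_bot_sp hperf τ hτs hτk m m' (fun x => (hm1 x).trans (off_one x))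
    (fun x => (hm1' x).trans (off_z x)) (Subtype.ext (Subtype.ext (by
      show ⁅((m : N) : E), ((m' : N) : E)⁆ = 1
      rw [hm, hm']
      exact hf1)))
  refine eq_bot_iff.2 fun x hx => ?_
  obtain ⟨y, hy, rfl⟩ := hle hx
  have h1 : η y = 1 := Φ.symm.injective (Subtype.ext (by
    rw [hη, map_one]; exact hx))
  have h2 : (⟨y, hy⟩ : commutator N) ∈ τ.ker := h1
  rw [hτ, Subgroup.mem_bot] at h2
  exact Subgroup.mem_bot.2 (congrArg (fun m : commutator N => ((m : N) : E)) h2)

end Two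

end CfsgLib.Schur.MinusOrth
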