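import Cfsg.Agent.Lib.Schur.MinusOrth.EvenValues
import Cfsg.Agent.Lib.Schur.OddOrth.Geometry

/-!
# The graph of vectors of norm one with polar value one, in characteristic two

In dimension at least eight it satisfies the hypotheses of `GraphT`; over the field with two elements in
dimension eight the form is assumed to have no totally singular subspace of dimension four.
-/

set_option autoImplicit false
set_option linter.unusedSectionVars false

open QuadraticMap Module CfsgLib.Orth CfsgLib.Classical CfsgLib.Schur.OddOrth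

namespace CfsgLib.Schur.MinusOrth

variable {F V : Type*} [Field F] [Fintype F] [CharP F 2] [AddCommGroup V] [Module F V] [FiniteDimensional F V]
  {Q : QuadraticForm F V}

/-- Polar value one. -/
def Adj2 (x y : Pt Q) : Prop := polar Q x.1 y.1 = 1

/-- The triangles not lying in a line. -/
def Tri2 (x y z : Pt Q) : Prop := x.1 + y.1 + z.1 ≠ 0

theorem neg_self (K : Type*) [Field K] [CharP K 2] {M : Type*} [AddCommGroup M] [Module K M] (v : M) : -v = v := by
  rw [← neg_one_smul K v, show (-1 : K) = 1 from CharTwo.neg_eq 1, one_smul]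

theorem sum_ne (K : Type*) [Field K] [CharP K 2] {M : Type*} [AddCommGroup M] [Module K M] {a b c : M}
    (h : c ≠ a + b) : a + b + c ≠ 0 := fun e => h (by
  rw [eq_comm, ← neg_self K c, ← sub_eq_zero, sub_neg_eq_add]; exact e)

theorem polar_self2 (v : V) : polar Q v v = 0 := by
  rw [polar_self', CharTwo.two_eq_zero, zero_mul]

theorem adj2_symm {x y : Pt Q} (h : Adj2 x y) : Adj2 y x := by
  show polar Q y.1 x.1 = 1
  rw [polar_comm]; exact h

theorem adj2_of {x y : Pt Q} (h : polar Q y.1 x.1 = 1) : Adj2 x y := by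
  show polar Q x.1 y.1 = 1
  rw [polar_comm]; exact h

theorem tri2_rot {x y z : Pt Q} (h : Tri2 x y z) : Tri2 y z x := fun e => h (by rw [← e]; abel)

theorem tri2_swap {x y z : Pt Q} (h : Tri2 x y z) : Tri2 y x z := fun e => h (by rw [← e]; abel)

theorem eq_of_smul (x : Pt Q) {y : Pt Q} {t : F} (h : y.1 = t • x.1) : y = x := by
  have h1 : t ^ 2 = 1 := by
    have := congrArg Q h
    rw [quad_smul', x.2, y.2] at this
    linear_combination -this
  have h2 : t = 1 := by
    have h3 : (t + 1) ^ 2 = 0 := by rw [CharTwo.add_sq, h1, one_pow, CharTwo.add_self_eq_zero]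
    exact CharTwo.add_eq_zero.1 ((pow_eq_zero_iff two_ne_zero).1 h3)
  exact Subtype.ext (by rw [h, h2, one_smul])

theorem li_pair {v x : Pt Q} (h : v ≠ x) : LinearIndependent F ![v.1, x.1] := by
  have hv : v.1 ≠ 0 := fun e => by simpa [e] using v.2
  rw [LinearIndependent.pair_iff]
  intro s t hst
  by_cases ht : t = 0
  · rw [ht, zero_smul, add_zero] at hst
    exact ⟨(smul_eq_zero.1 hst).resolve_right hv, ht⟩
  · refine absurd (eq_of_smul v (y := x) (t := -(s / t)) ?_).symm h
    rw [eq_comm, neg_smul, div_eq_inv_mul, mul_smul, eq_neg_of_add_eq_zero_left hst, smul_neg, inv_smul_smul₀ ht,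
      neg_neg]

theorem li_triple {v x u : Pt Q} (hvu : Adj2 v u) (hux : Adj2 u x) (hne : v ≠ x) (hg : u.1 ≠ v.1 + x.1) :
    LinearIndependent F ![v.1, x.1, u.1] := by
  rw [Fintype.linearIndependent_iff]
  intro g hg0
  simp only [Fin.sum_univ_three, Matrix.cons_val_zero, Matrix.cons_val_one, Matrix.cons_val] at hg0
  have hxu : polar Q x.1 u.1 = 1 := adj2_symm hux
  have huv : polar Q u.1 v.1 = 1 := adj2_symm hvu
  have hev := congrArg (polar Q v.1) hg0
  have hex := congrArg (polar Q x.1) hg0
  have heu := congrArg (polar Q u.1) hg0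
  simp only [polar_add_right, polar_smul_r', polar_zero_right, polar_self2, mul_zero, zero_add, add_zero,
    show polar Q v.1 u.1 = 1 from hvu, show polar Q u.1 x.1 = 1 from hux, hxu, huv, polar_comm Q x.1 v.1,
    mul_one] at hev hex heu
  set p := polar Q v.1 x.1
  have h01 : g 0 = g 1 := CharTwo.add_eq_zero.1 heu
  have h2 : g 2 = g 1 * p := (CharTwo.add_eq_zero.1 hev).symm
  by_cases hg1 : g 1 = 0
  · intro i
    fin_cases i
    · exact h01.trans hg1
    · exact hg1
    · rw [show (⟨2, by norm_num⟩ : Fin 3) = 2 from rfl, h2, hg1, zero_mul]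
  exfalso
  rw [h01, h2, mul_smul, ← smul_add, ← smul_add] at hg0
  have hs := (smul_eq_zero.1 hg0).resolve_left hg1
  have hvx : v.1 + x.1 = p • u.1 := by
    rw [eq_neg_of_add_eq_zero_left hs]
    exact neg_self F _
  have hQ1 := congrArg Q hvx
  rw [quad_add', quad_smul', v.2, x.2, u.2] at hQ1
  have h11 : (1 : F) + 1 = 0 := CharTwo.add_self_eq_zero 1
  have hp : p * (p - 1) = 0 := by linear_combination -hQ1 + h11
  rcases mul_eq_zero.1 hp with h | h
  · rw [h, zero_smul] at hvx
    exact hne (Subtype.ext ((eq_neg_of_add_eq_zero_left hvx).trans (neg_self F _)))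
  · rw [sub_eq_zero.1 h, one_smul] at hvx
    exact hg hvx.symm

theorem mem_span3 {a b c z : V} :
    z ∈ Submodule.span F (Set.range ![a, b, c]) ↔ ∃ r s t : F, r • a + s • b + t • c = z := by
  rw [Submodule.mem_span_range_iff_exists_fun]
  constructor
  · rintro ⟨g, rfl⟩
    exact ⟨g 0, g 1, g 2, by simp [Fin.sum_univ_three]⟩
  · rintro ⟨r, s, t, rfl⟩
    exact ⟨![r, s, t], by simp [Fin.sum_univ_three]⟩

theorem li_four {v x u w : V} (h : LinearIndependent F ![v, x, u])
    (hw : w ∉ Submodule.span F (Set.range ![v, x, u])) : LinearIndependent F ![v, x, u, w] := by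
  rw [Fintype.linearIndependent_iff] at h ⊢
  intro g hg
  simp only [Fin.sum_univ_four, Matrix.cons_val_zero, Matrix.cons_val_one, Matrix.cons_val] at hg
  have h3 : g 3 = 0 := by
    by_contra h3
    refine hw (mem_span3.2 ⟨-(g 0 / g 3), -(g 1 / g 3), -(g 2 / g 3), ?_⟩)
    have e : g 3 • w = -(g 0 • v + g 1 • x + g 2 • u) := eq_neg_of_add_eq_zero_right hg
    rw [← inv_smul_smul₀ h3 w, e]
    simp only [smul_neg, smul_add, smul_smul, neg_smul, div_eq_inv_mul, neg_add]
  have h' := h ![g 0, g 1, g 2] (by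
    simpa [Fin.sum_univ_three, h3] using hg)
  intro i
  fin_cases i
  · exact h' 0
  · exact h' 1
  · exact h' 2
  · exact h3

variable (hQ : (QuadraticMap.polarBilin Q).Nondegenerate) (hn : 8 ≤ finrank F V)
include hQ hn

theorem exists_new_of_pair {k : ℕ} (f : Fin k → V) (hf : LinearIndependent F f) (i j : Fin k)
    (hij : polar Q (f i) (f j) = 1) (hk : 2 * k + 1 ≤ finrank F V) (c : Fin k → F) :
    ∃ y : Pt Q, (∀ l, polar Q y.1 (f l) = c l) ∧ y.1 ∉ Submodule.span F (Set.range f) := by
  have h1 := finrank_radical_add_two (Q := Q) (Submodule.span F (Set.range f)) (Submodule.subset_span ⟨i, rfl⟩)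
    (Submodule.subset_span ⟨j, rfl⟩) hij (polar_self2 _) (polar_self2 _)
  have h2 : finrank F (Submodule.span F (Set.range f)) = k :=
    (finrank_span_eq_card hf).trans (Fintype.card_fin k)
  obtain ⟨u, hu, hc, hnot⟩ := exists_one_new hQ f hf c (by omega) 1
  exact ⟨⟨u, hu⟩, hc, hnot⟩

theorem exists_new_small {k : ℕ} (f : Fin k → V) (hf : LinearIndependent F f) (hk : 2 * k + 3 ≤ finrank F V)
    (c : Fin k → F) :
    ∃ y : Pt Q, (∀ l, polar Q y.1 (f l) = c l) ∧ y.1 ∉ Submodule.span F (Set.range f) := by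
  have h1 : finrank F (Submodule.span F (Set.range f)) = k :=
    (finrank_span_eq_card hf).trans (Fintype.card_fin k)
  have h2 := Submodule.finrank_mono (show Submodule.span F (Set.range f) ⊓
    LinearMap.BilinForm.orthogonal (QuadraticMap.polarBilin Q) (Submodule.span F (Set.range f)) ≤
      Submodule.span F (Set.range f) from inf_le_left)
  obtain ⟨u, hu, hc, hnot⟩ := exists_one_new hQ f hf c (by omega) 1
  exact ⟨⟨u, hu⟩, hc, hnot⟩

omit hQ hn in
/-- A path to a common neighbour through another one. -/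
theorem path_two {v x u y w : Pt Q} (hvy : Adj2 v y) (hyx : Adj2 y x) (huy : Adj2 u y) (hyw : Adj2 y w)
    (hvw : Adj2 v w) (hwx : Adj2 w x) (h1 : y.1 ≠ v.1 + u.1) (h2 : y.1 ≠ u.1 + x.1)
    (h3 : y.1 ≠ v.1 + w.1) (h4 : y.1 ≠ w.1 + x.1) :
    Relation.ReflTransGen (fun a b => Adj2 a b ∧ Adj2 v b ∧ Adj2 b x ∧ Tri2 v a b ∧ Tri2 b a x) u w :=
  (Relation.ReflTransGen.single ⟨huy, hvy, hyx, sum_ne F h1,
    fun e => sum_ne F h2 (by rw [← e]; abel)⟩).tail ⟨hyw, hvw, hwx,
      fun e => sum_ne F h3 (by rw [← e]; abel), fun e => sum_ne F h4 (by rw [← e]; abel)⟩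

/-- Two independent common neighbours, over the field with two elements in the degenerate case. -/
theorem exists_step_two (hidx : finrank F V ≤ 8 → ∀ U : Submodule F V, (∀ u ∈ U, Q u = 0) → finrank F U ≤ 3)
    (hq : ∀ c : F, c = 0 ∨ c = 1) {v x u w : Pt Q} (hvu : Adj2 v u) (hux : Adj2 u x) (hvw : Adj2 v w)
    (hwx : Adj2 w x) (hli : LinearIndependent F ![v.1, x.1, u.1, w.1]) (hp : polar Q v.1 x.1 = 0)
    (hs : polar Q u.1 w.1 = 0) :
    ∃ y : Pt Q, Adj2 v y ∧ Adj2 y x ∧ Adj2 u y ∧ Adj2 y w ∧
      y.1 ∉ Submodule.span F (Set.range ![v.1, x.1, u.1, w.1]) := by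
  set f := ![v.1, x.1, u.1, w.1] with hf
  set W := Submodule.span F (Set.range f)
  have hmem : ∀ i, f i ∈ W := fun i => Submodule.subset_span ⟨i, rfl⟩
  have hW : finrank F W = 4 := (finrank_span_eq_card hli).trans (Fintype.card_fin 4)
  have hrad := finrank_radical_add_two (Q := Q) W (hmem 0) (hmem 2) hvu (polar_self2 _) (polar_self2 _)
  by_cases h9 : 9 ≤ finrank F V
  · obtain ⟨y, hy, hynot⟩ := exists_new_of_pair hQ hn f hli 0 2 hvu (by omega) (fun _ => 1)
    refine ⟨y, ?_, hy 1, ?_, hy 3, hynot⟩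
    · exact adj2_symm (hy 0)
    · exact adj2_symm (hy 2)
  obtain ⟨C, -, -, -, hCf, hC, hd⟩ := exists_split hQ f hli (fun _ => 1)
  -- a singular vector in the complement
  obtain ⟨e, he0, hQe⟩ : ∃ e : C, e ≠ 0 ∧ Q (e : V) = 0 := by
    by_contra hall
    push Not at hall
    have hQC : ∀ t : C, t ≠ 0 → Q (t : V) = 1 := fun t ht => (hq _).resolve_left (hall t ht)
    have hd' : finrank F V = finrank F C + 4 +
        finrank F ↥(W ⊓ LinearMap.BilinForm.orthogonal (QuadraticMap.polarBilin Q) W) := hd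
    have hC2 : 2 ≤ finrank F C := by omega
    obtain ⟨c₁, hc₁⟩ := Module.finrank_pos_iff_exists_ne_zero.1 (show 0 < finrank F C by omega)
    obtain ⟨c₂, hc₂⟩ : ∃ c₂ : C, polar Q (c₁ : V) c₂ = 1 := by
      by_contra h'
      push Not at h'
      refine hc₁ (eq_zero_of_polar hC fun w => ?_)
      have h1 : polar (Q.comp C.subtype) c₁ w = polar Q (c₁ : V) w := by simp [polar, QuadraticMap.comp_apply]
      rw [h1]
      exact (hq _).resolve_right (h' w)
    have hc₂0 : c₂ ≠ 0 := fun h => by
      rw [h, Submodule.coe_zero, polar_zero_right] at hc₂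
      exact zero_ne_one hc₂
    have hQ1 : Q (c₁ : V) = 1 := hQC _ hc₁
    have hQ2 : Q (c₂ : V) = 1 := hQC _ hc₂0
    have hCW : ∀ (t : C) (i : Fin 4), polar Q (f i) (t : V) = 0 := fun t i => by
      rw [polar_comm]; exact hCf t t.2 i
    have hv1 : ∀ t : C, polar Q v.1 (t : V) = 0 := fun t => hCW t 0
    have hx1 : ∀ t : C, polar Q x.1 (t : V) = 0 := fun t => hCW t 1
    have hu1 : ∀ t : C, polar Q u.1 (t : V) = 0 := fun t => hCW t 2
    have hw1 : ∀ t : C, polar Q w.1 (t : V) = 0 := fun t => hCW t 3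
    let S : Fin 4 → V := ![v.1 + x.1, u.1 + w.1, v.1 + (c₁ : V), u.1 + (c₂ : V)]
    have h11 : (1 : F) + 1 = 0 := CharTwo.add_self_eq_zero 1
    have hvu' : polar Q v.1 u.1 = 1 := hvu
    have hvw' : polar Q v.1 w.1 = 1 := hvw
    have hux' : polar Q u.1 x.1 = 1 := hux
    have hwx' : polar Q w.1 x.1 = 1 := hwx
    have hSQ : ∀ i, Q (S i) = 0 := by
      intro i
      fin_cases i <;> simp [S, quad_add', v.2, x.2, u.2, w.2, hp, hs, hQ1, hQ2, hv1, hu1, h11]
    have hSp : ∀ i j, polar Q (S i) (S j) = 0 := by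
      intro i j
      have hc21 : polar Q (c₂ : V) c₁ = 1 := by rw [polar_comm]; exact hc₂
      fin_cases i <;> fin_cases j <;>
        simp [S, polar_add_left, polar_add_right, polar_self2, CharTwo.two_eq_zero, hp, hs, hvu', hvw', hux', hwx', hv1, hx1, hu1,
          hw1, hc₂, hc21, h11, polar_comm Q x.1 v.1, polar_comm Q u.1 v.1, polar_comm Q w.1 v.1,
          polar_comm Q x.1 u.1, polar_comm Q x.1 w.1, polar_comm Q w.1 u.1, polar_comm Q (c₁ : V) v.1,
          polar_comm Q (c₁ : V) x.1, polar_comm Q (c₁ : V) u.1, polar_comm Q (c₁ : V) w.1,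
          polar_comm Q (c₂ : V) v.1, polar_comm Q (c₂ : V) x.1, polar_comm Q (c₂ : V) u.1,
          polar_comm Q (c₂ : V) w.1]
    have hsing : ∀ z ∈ Submodule.span F (Set.range S), Q z = 0 := by
      suffices h : ∀ z ∈ Submodule.span F (Set.range S), Q z = 0 ∧ ∀ i, polar Q z (S i) = 0 from
        fun z hz => (h z hz).1
      intro z hz
      induction hz using Submodule.span_induction with
      | mem z hz => obtain ⟨i, rfl⟩ := hz; exact ⟨hSQ i, hSp i⟩
      | zero => exact ⟨map_zero Q, fun i => polar_zero_left (Q := Q) _⟩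
      | add a b ha hb iha ihb =>
        refine ⟨?_, fun i => by rw [polar_add_left, iha.2, ihb.2, add_zero]⟩
        have hab : polar Q a b = 0 := by
          clear ihb
          induction hb using Submodule.span_induction with
          | mem b hb => obtain ⟨i, rfl⟩ := hb; exact iha.2 i
          | zero => exact polar_zero_right (Q := Q) _
          | add p q _ _ hp hq => rw [polar_add_right, hp, hq, add_zero]
          | smul r p _ hp => rw [polar_smul_r', hp, mul_zero]
        rw [quad_add', iha.1, ihb.1, hab, add_zero, add_zero]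
      | smul r a _ iha =>
        exact ⟨by rw [quad_smul', iha.1, mul_zero], fun i => by rw [polar_smul_l', iha.2, mul_zero]⟩
    have hSli : LinearIndependent F S := by
      rw [Fintype.linearIndependent_iff]
      intro g hg
      simp only [S, Fin.sum_univ_four, Matrix.cons_val_zero, Matrix.cons_val_one, Matrix.cons_val, smul_add] at hg
      set t : C := g 2 • c₁ + g 3 • c₂
      have ht : (t : V) = -((g 0 + g 2) • v.1 + g 0 • x.1 + (g 1 + g 3) • u.1 + g 1 • w.1) := by
        rw [eq_neg_iff_add_eq_zero, ← hg]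
        simp only [t, Submodule.coe_add, Submodule.coe_smul, add_smul]
        abel
      have ht0 : t = 0 := eq_zero_of_polar hC fun z => by
        have h1 : polar (Q.comp C.subtype) t z = polar Q (t : V) z := by simp [polar, QuadraticMap.comp_apply]
        rw [h1, ht, QuadraticMap.polar_neg_left, polar_add_left, polar_add_left, polar_add_left,
          polar_smul_l', polar_smul_l', polar_smul_l', polar_smul_l', hv1, hx1, hu1, hw1]
        ring
      rw [ht0, Submodule.coe_zero, eq_comm, neg_eq_zero] at ht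
      have h4 := Fintype.linearIndependent_iff.1 hli ![g 0 + g 2, g 0, g 1 + g 3, g 1] (by
        simpa [f, Fin.sum_univ_four] using ht)
      have e0 : g 0 = 0 := h4 1
      have e1 : g 1 = 0 := h4 3
      have e2 : g 2 = 0 := by simpa [e0] using h4 0
      have e3 : g 3 = 0 := by simpa [e1] using h4 2
      intro i
      fin_cases i <;> assumption
    have h4 := hidx (by omega) _ hsing
    rw [finrank_span_eq_card hSli, Fintype.card_fin] at h4
    omega
  have hy : Q (v.1 + u.1 + (e : V)) = 1 := by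
    have h0 : polar Q v.1 (e : V) = 0 := by rw [polar_comm]; exact hCf e e.2 0
    have h2 : polar Q u.1 (e : V) = 0 := by rw [polar_comm]; exact hCf e e.2 2
    rw [quad_add', quad_add', polar_add_left, v.2, u.2, show polar Q v.1 u.1 = 1 from hvu, hQe, h0, h2]
    have h11 : (1 : F) + 1 = 0 := CharTwo.add_self_eq_zero 1
    linear_combination h11
  have hpol : ∀ i, polar Q (v.1 + u.1 + (e : V)) (f i) = 1 := by
    intro i
    rw [polar_add_left, hCf e e.2 i, add_zero, polar_add_left]
    fin_cases i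
    · simp [f, polar_self2, CharTwo.two_eq_zero, show polar Q u.1 v.1 = 1 from adj2_symm hvu]
    · simp [f, hp, show polar Q u.1 x.1 = 1 from hux]
    · simp [f, polar_self2, CharTwo.two_eq_zero, show polar Q v.1 u.1 = 1 from hvu]
    · simp [f, hs, show polar Q v.1 w.1 = 1 from hvw]
  refine ⟨⟨_, hy⟩, adj2_symm (hpol 0), hpol 1, adj2_symm (hpol 2), hpol 3, fun hy0 => ?_⟩
  obtain ⟨g, hg⟩ : ∃ g : C, polar Q (e : V) g ≠ 0 := by
    by_contra h'
    push Not at h'
    refine he0 (eq_zero_of_polar hC fun w => ?_)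
    simpa [polar, QuadraticMap.comp_apply] using h' w
  have h0 : ∀ z ∈ W, polar Q (g : V) z = 0 := by
    intro z hz
    induction hz using Submodule.span_induction with
    | mem z hz => obtain ⟨i, rfl⟩ := hz; exact hCf g g.2 i
    | zero => exact polar_zero_right (Q := Q) _
    | add p q _ _ hp hq => rw [polar_add_right, hp, hq, add_zero]
    | smul r p _ hp => rw [polar_smul_r', hp, mul_zero]
  have h1 := h0 _ hy0
  rw [polar_add_right, polar_add_right, show polar Q (g : V) v.1 = 0 from h0 _ (hmem 0), show polar Q (g : V) u.1 = 0 from h0 _ (hmem 2),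
    zero_add, zero_add, polar_comm] at h1
  exact hg h1

end CfsgLib.Schur.MinusOrth
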