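import Cfsg.Agent.Lib.Schur.MinusOrth.EvenTrans

/-!
# The graph in characteristic two satisfies `GraphT`
-/

set_option autoImplicit false
set_option linter.unusedSectionVars false

open QuadraticMap Module CfsgLib.Orth CfsgLib.Classical CfsgLib.Schur.OddOrth

namespace CfsgLib.Schur.MinusOrth

variable {F V : Type*} [Field F] [Fintype F] [CharP F 2] [AddCommGroup V] [Module F V] [FiniteDimensional F V]
  {Q : QuadraticForm F V} (hQ : (QuadraticMap.polarBilin Q).Nondegenerate) (hn : 8 ≤ finrank F V)
include hQ hn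

/-- The stabilizer of an edge in the commutator subgroup is perfect. -/
theorem perfect_edge2 [Finite V] {v y : Pt Q} (hvy : Adj2 v y) :
    MulAction.stabilizer (commutator (orthGroup Q)) v ⊓ MulAction.stabilizer (commutator (orthGroup Q)) y ≤
      ⁅MulAction.stabilizer (commutator (orthGroup Q)) v ⊓ MulAction.stabilizer (commutator (orthGroup Q)) y,
        MulAction.stabilizer (commutator (orthGroup Q)) v ⊓ MulAction.stabilizer (commutator (orthGroup Q)) y⁆ := by
  have hvy' : polar Q v.1 y.1 = 1 := hvy
  have hyv : polar Q y.1 v.1 = 1 := adj2_symm hvy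
  let φ : V →ₗ[F] F × F := (QuadraticMap.polarBilin Q v.1).prod (QuadraticMap.polarBilin Q y.1)
  let U := LinearMap.ker φ
  have hU : ∀ z, z ∈ U ↔ polar Q v.1 z = 0 ∧ polar Q y.1 z = 0 := fun z => by
    simp [U, φ, LinearMap.mem_ker]
  have hdim : 6 ≤ finrank F U := by
    have h1 := LinearMap.finrank_range_add_finrank_ker φ
    have h3 := Submodule.finrank_le (LinearMap.range φ)
    rw [Module.finrank_prod, Module.finrank_self] at h3
    show 6 ≤ finrank F (LinearMap.ker φ)
    omega
  have hsplit : ∀ z : V, z - (polar Q y.1 z) • v.1 - (polar Q v.1 z) • y.1 ∈ U := fun z => by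
    rw [hU]
    constructor <;>
    · rw [polar_sub_right, polar_sub_right, polar_smul_r', polar_smul_r']
      simp only [polar_self2, hvy', hyv]
      ring
  have hperp : ∀ z : V, (∀ w : U, polar Q z w = 0) → z = (polar Q y.1 z) • v.1 + (polar Q v.1 z) • y.1 := by
    intro z hz
    rw [← sub_eq_zero]
    set d := z - ((polar Q y.1 z) • v.1 + (polar Q v.1 z) • y.1) with hd
    have hdU : d ∈ U := by
      rw [hd, ← sub_sub]; exact hsplit z
    refine eq_zero_of_polar hQ fun x => ?_
    obtain ⟨d', hd'⟩ : ∃ d' : U, x = d' + (polar Q y.1 x) • v.1 + (polar Q v.1 x) • y.1 :=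
      ⟨⟨_, hsplit x⟩, by
        show x = x - (polar Q y.1 x) • v.1 - (polar Q v.1 x) • y.1 + _ + _
        abel⟩
    rw [hd', polar_add_right, polar_add_right, polar_smul_r', polar_smul_r', polar_comm Q d v.1,
      ((hU _).1 hdU).1, polar_comm Q d y.1, ((hU _).1 hdU).2, hd, polar_sub_left, polar_add_left,
      polar_smul_l', polar_smul_l', ((hU _).1 d'.2).1, ((hU _).1 d'.2).2, hz d']
    ring
  let R := Q.comp U.subtype
  have hR : (QuadraticMap.polarBilin R).Nondegenerate := nondegenerate_of_left fun u hu => Subtype.ext (by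
    have h := hperp u.1 fun w => by simpa [R, polar, QuadraticMap.comp_apply] using hu w
    rw [((hU _).1 u.2).1, ((hU _).1 u.2).2] at h
    simpa using h)
  obtain ⟨J, hJT, hJfix, hJrefl, hJsurj⟩ := exists_embHom U.subtype (fun w => rfl) hR hQ
  have h4 : Good F V := good_of (Or.inr (by omega))
  have h4' : Good F U := good_of (Or.inr (by omega))
  have hiff := embHom_mem_commutator_iff_two U.subtype (fun w => rfl) hR hQ h4 h4' J hJrefl
  obtain ⟨hp⟩ := exists_hypPairs hR (by omega)
  let J' : commutator (orthGroup R) →* commutator (orthGroup Q) :=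
    (J.comp (commutator (orthGroup R)).subtype).codRestrict _ fun g => (hiff g.1).2 g.2
  have hvy2 : ∀ w : U, polar Q v.1 w = 0 ∧ polar Q y.1 w = 0 := fun w => (hU _).1 w.2
  have hrange : J'.range = MulAction.stabilizer (commutator (orthGroup Q)) v ⊓
      MulAction.stabilizer (commutator (orthGroup Q)) y := by
    ext h
    constructor
    · rintro ⟨g, rfl⟩
      exact ⟨Subtype.ext (hJfix g.1 v.1 fun w => (hvy2 w).1), Subtype.ext (hJfix g.1 y.1 fun w => (hvy2 w).2)⟩
    · rintro ⟨hv, hy⟩
      have hv' : h.1.1 v.1 = v.1 := congrArg Subtype.val hv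
      have hy' : h.1.1 y.1 = y.1 := congrArg Subtype.val hy
      obtain ⟨g, hg⟩ := hJsurj h.1 fun z hz => by
        rw [hperp z hz, map_add, map_smul, map_smul, hv', hy']
      exact ⟨⟨g, (hiff g).1 (hg ▸ h.2)⟩, Subtype.ext hg⟩
  have hperf : (⊤ : Subgroup (commutator (orthGroup R))) ≤ ⁅(⊤ : Subgroup (commutator (orthGroup R))), ⊤⁆ := by
    rw [← Subgroup.map_subtype_le_map_subtype, Subgroup.map_commutator, ← MonoidHom.range_eq_map,
      Subgroup.range_subtype]
    exact CfsgLib.Classical.commutator_perfect hR h4' hp (by omega)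
  rw [← hrange, MonoidHom.range_eq_map, ← Subgroup.map_commutator]
  exact Subgroup.map_mono hperf

/-- The graph. -/
theorem orthGraph2 [Finite V]
    (hidx : finrank F V ≤ 8 → ∀ U : Submodule F V, (∀ u ∈ U, Q u = 0) → finrank F U ≤ 3) (v0 : Pt Q) :
    GraphT (G := commutator (orthGroup Q)) v0 (Adj2 (Q := Q)) Tri2 (fun u x => u.1 ≠ v0.1 + x.1) where
  symm h := adj2_symm h
  smul g {x y} h := by
    show polar Q (g.1.1 x.1) (g.1.1 y.1) = 1
    rw [polar_isom]; exact h
  point x := by
    have h0 : ∀ p : Pt Q, LinearIndependent F fun i => (![p] i).1 := fun p =>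
      LinearIndependent.of_subsingleton 0 fun e => by simpa [show p.1 = 0 from e] using p.2
    obtain ⟨g, hg⟩ := trans_indep hQ hn (k := 1) (by omega) ![v0] ![x] (h0 v0) (h0 x) (fun i j => by
      fin_cases i; fin_cases j
      show polar Q v0.1 v0.1 = polar Q x.1 x.1
      rw [polar_self2, polar_self2])
    exact ⟨g, hg 0⟩
  edge {x y x' y'} h h' := by
    have hli : ∀ {p q : Pt Q}, Adj2 p q → LinearIndependent F fun i => (![p, q] i).1 := fun {p q} h => by
      have hne : p ≠ q := fun e => by
        subst e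
        have : polar Q p.1 p.1 = 1 := h
        rw [polar_self2] at this
        exact zero_ne_one this
      convert li_pair hne using 2 with i
      fin_cases i <;> rfl
    obtain ⟨g, hg⟩ := trans_indep hQ hn (k := 2) (by omega) ![x, y] ![x', y'] (hli h) (hli h') (fun i j => by
      fin_cases i <;> fin_cases j <;>
        simp [polar_self2, CharTwo.two_eq_zero, show polar Q x.1 y.1 = 1 from h,
          show polar Q x'.1 y'.1 = 1 from h', show polar Q y.1 x.1 = 1 from adj2_symm h,
          show polar Q y'.1 x'.1 = 1 from adj2_symm h'])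
    exact ⟨g, hg 0, hg 1⟩
  tri {x y z x' y' z'} a b c t a' b' c' t' := by
    have hli : ∀ {p q r : Pt Q}, Adj2 p q → Adj2 q r → Adj2 r p → Tri2 p q r →
        LinearIndependent F fun i => (![p, q, r] i).1 := fun {p q r} a b c t => by
      have hne : p ≠ r := fun e => by
        subst e
        have : polar Q p.1 p.1 = 1 := c
        rw [polar_self2] at this
        exact zero_ne_one this
      have h3 := li_triple (v := p) (x := r) (u := q) a b hne (fun e => t (by
        rw [e]
        have h1 : p.1 + p.1 = 0 := by nth_rewrite 1 [← neg_self F p.1]; exact neg_add_cancel _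
        have h2 : r.1 + r.1 = 0 := by nth_rewrite 1 [← neg_self F r.1]; exact neg_add_cancel _
        calc p.1 + (p.1 + r.1) + r.1 = (p.1 + p.1) + (r.1 + r.1) := by abel
          _ = 0 := by rw [h1, h2, add_zero]))
      have h4 := h3.comp ![0, 2, 1] (fun i j hij => by fin_cases i <;> fin_cases j <;> simp_all)
      convert h4 using 2 with i
      fin_cases i <;> rfl
    obtain ⟨g, hg⟩ := trans_indep hQ hn (k := 3) (by omega) ![x, y, z] ![x', y', z'] (hli a b c t)
      (hli a' b' c' t') (fun i j => by
      fin_cases i <;> fin_cases j <;>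
        simp [polar_self2, CharTwo.two_eq_zero, show polar Q x.1 y.1 = 1 from a, show polar Q x'.1 y'.1 = 1 from a',
          show polar Q y.1 z.1 = 1 from b, show polar Q y'.1 z'.1 = 1 from b', show polar Q z.1 x.1 = 1 from c,
          show polar Q z'.1 x'.1 = 1 from c', show polar Q y.1 x.1 = 1 from adj2_symm a,
          show polar Q y'.1 x'.1 = 1 from adj2_symm a', show polar Q z.1 y.1 = 1 from adj2_symm b,
          show polar Q z'.1 y'.1 = 1 from adj2_symm b', show polar Q x.1 z.1 = 1 from adj2_symm c,
          show polar Q x'.1 z'.1 = 1 from adj2_symm c'])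
    exact ⟨g, hg 0, hg 1, hg 2⟩
  base := by
    obtain ⟨u, hu, -⟩ := exists_common2 hQ hn v0 v0
    have hne : v0 ≠ u := fun e => by
      subst e
      have : polar Q v0.1 v0.1 = 1 := hu
      rw [polar_self2] at this
      exact zero_ne_one this
    obtain ⟨w, hw, hnot⟩ := exists_new_of_pair hQ hn ![v0.1, u.1] (li_pair hne) 0 1 hu (by omega) (fun _ => 1)
    have h0 : w.1 ≠ v0.1 + u.1 := fun e =>
      hnot (e ▸ add_mem (Submodule.subset_span ⟨0, rfl⟩) (Submodule.subset_span ⟨1, rfl⟩))
    exact ⟨u, w, hu, adj2_of (hw 0), hw 1, sum_ne F h0, fun e => sum_ne F h0 (by rw [← e]; abel)⟩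
  common x := exists_common2 hQ hn v0 x
  link a b g c d g' := link2 hQ hn hidx a b g c d g'
  cone hab := cone2 hQ hn v0 hab
  perf h := perfect_edge2 hQ hn h

end CfsgLib.Schur.MinusOrth
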