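import Cfsg.Agent.Lib.Schur.MinusOrth.EvenMain
import Cfsg.Agent.Lib.Classical.SympMatrix

/-!
# The stabilizer of a norm one vector in `Ω⁻_{2k+2}(q)`, `q` even, is `Sp_{2k}(q)`
-/

set_option autoImplicit false
set_option linter.unusedSectionVars false

open Matrix QuadraticMap Module CfsgLib.Orth CfsgLib.Classical CfsgLib.Schur.OddOrth

namespace CfsgLib.Schur.MinusOrth

variable {F : Type*} [Field F] [CharP F 2] {k : ℕ} {a b : F}

/-- The coordinates off the anisotropic plane. -/
def planeOff (k : ℕ) : ((Fin k ⊕ Fin k) ⊕ Fin 2 → F) →ₗ[F] (Fin k ⊕ Fin k → F) where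
  toFun x i := x (.inl i)
  map_add' _ _ := rfl
  map_smul' _ _ := rfl

/-- The vectors with those coordinates. -/
def planeIn (k : ℕ) : (Fin k ⊕ Fin k → F) →ₗ[F] ((Fin k ⊕ Fin k) ⊕ Fin 2 → F) where
  toFun u := Sum.elim u 0
  map_add' u w := by
    funext x
    rcases x with i | j <;> simp
  map_smul' c u := by
    funext x
    rcases x with i | j <;> simp

theorem polar_base (x : (Fin k ⊕ Fin k) ⊕ Fin 2 → F) :
    polar (minusForm F k a b) (Pi.single (Sum.inr 0) 1) x = a * x (.inr 1) := by
  rw [minusForm_polar]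
  simp [Pi.single_apply, CharTwo.two_eq_zero]

theorem decomp_plane {x : (Fin k ⊕ Fin k) ⊕ Fin 2 → F} (hx : x (.inr 1) = 0) :
    x = planeIn k (planeOff k x) + x (.inr 0) • Pi.single (Sum.inr 0) 1 := by
  funext i
  rcases i with i | j
  · simp [planeIn, planeOff]
  · fin_cases j <;> simp [planeIn, hx]

theorem polar_planeIn (u w : Fin k ⊕ Fin k → F) :
    polar (minusForm F k a b) (planeIn k u) (planeIn k w) = Cfsg.sympForm k F u w := by
  rw [minusForm_polar, sympForm_eq]
  simp only [planeIn, LinearMap.coe_mk, AddHom.coe_mk, Sum.elim_inl, Sum.elim_inr, Pi.zero_apply, mul_zero,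
    zero_mul, add_zero]
  refine Finset.sum_congr rfl fun i _ => ?_
  rw [CharTwo.sub_eq_add]
  ring

variable [Fintype F] (hab : ∀ z₁ z₂ : F, z₁ ^ 2 + a * z₁ * z₂ + b * z₂ ^ 2 = 0 → z₁ = 0 ∧ z₂ = 0)
include hab

theorem a_ne_zero : a ≠ 0 := fun h => by
  obtain ⟨t, ht⟩ := FiniteField.isSquare_of_char_two (ringChar.eq F 2) b
  have h1 := hab t 1 (by
    have h11 : (1 : F) + 1 = 0 := CharTwo.add_self_eq_zero 1
    rw [h, ht]; linear_combination t ^ 2 * h11)
  exact one_ne_zero h1.2

variable (hk : 3 ≤ k) (v0 : Pt (minusForm F k a b)) (hv0 : v0.1 = Pi.single (Sum.inr 0) 1)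
include hk hv0

set_option maxHeartbeats 1600000 in
/-- The stabilizer is the symplectic group. -/
theorem exists_stab_two : ∃ Φ : ↥(MulAction.stabilizer ↥(commutator (orthGroup (minusForm F k a b))) v0) ≃*
      symplecticGroup (Fin k) F,
    ∀ g x, (Φ g).1 *ᵥ x = planeOff k (g.1.1.1 (planeIn k x)) := by
  classical
  have ha := a_ne_zero hab
  have hQ : (QuadraticMap.polarBilin (minusForm F k a b)).Nondegenerate := minusForm_nondeg k a b hab
  have hn : finrank F ((Fin k ⊕ Fin k) ⊕ Fin 2 → F) = 2 * k + 2 := by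
    simp [Module.finrank_pi]; ring
  have h4 : Good F ((Fin k ⊕ Fin k) ⊕ Fin 2 → F) := good_of (Or.inr (by omega))
  obtain ⟨κ, hκ⟩ := exists_dickson (Q := minusForm F k a b) hQ
  let St := MulAction.stabilizer ↥(commutator (orthGroup (minusForm F k a b))) v0
  have hfix : ∀ g : St, g.1.1.1 v0.1 = v0.1 := fun g => congrArg Subtype.val g.2
  have hz0 : ∀ (g : St) x, x (Sum.inr 1) = 0 → g.1.1.1 x (Sum.inr 1) = 0 := by
    intro g x hx
    have h := polar_isom g.1.1 v0.1 x
    rw [hfix g, hv0, polar_base, polar_base, hx, mul_zero] at h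
    exact (mul_eq_zero.1 h).resolve_left ha
  have hin : ∀ x : Fin k ⊕ Fin k → F, planeIn k x (Sum.inr 1) = 0 := fun x => rfl
  have hoff : ∀ x : Fin k ⊕ Fin k → F, planeOff k (planeIn k x) = x := fun x => rfl
  have hoff0 : planeOff k v0.1 = 0 := by
    funext i; simp [hv0, planeOff]
  let M : St → Matrix (Fin k ⊕ Fin k) (Fin k ⊕ Fin k) F := fun g =>
    LinearMap.toMatrix' ((planeOff k).comp ((g.1.1.1 : _ →ₗ[F] _).comp (planeIn k)))
  have hM : ∀ g x, M g *ᵥ x = planeOff k (g.1.1.1 (planeIn k x)) := fun g x => by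
    simp [M, LinearMap.toMatrix'_mulVec]
  have hoffg : ∀ (g : St) y, y (Sum.inr 1) = 0 →
      planeOff k (g.1.1.1 y) = planeOff k (g.1.1.1 (planeIn k (planeOff k y))) := fun g y hy => by
    conv_lhs => rw [decomp_plane hy, map_add, map_smul, ← hv0, hfix g, map_add, map_smul, hoff0, smul_zero,
      add_zero]
  have hpolar : ∀ x y : (Fin k ⊕ Fin k) ⊕ Fin 2 → F, x (Sum.inr 1) = 0 → y (Sum.inr 1) = 0 →
      polar (minusForm F k a b) x y = Cfsg.sympForm k F (planeOff k x) (planeOff k y) := fun x y hx hy => by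
    conv_lhs => rw [decomp_plane hx, decomp_plane hy]
    rw [polar_add_left, polar_add_right, polar_add_right, polar_smul_l', polar_smul_l', polar_smul_r',
      polar_smul_r', polar_planeIn, polar_comm _ (planeIn k (planeOff k x)) (Pi.single _ _), polar_base,
      polar_base, polar_base, hin, hin]
    simp
  have hmem : ∀ g, M g ∈ symplecticGroup (Fin k) F := fun g => by
    rw [mem_symplecticGroup_iff_preserves]
    intro u w
    rw [hM, hM, ← hpolar _ _ (hz0 g _ (hin u)) (hz0 g _ (hin w)), polar_isom, polar_planeIn]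
  let Φ₀ : St →* symplecticGroup (Fin k) F := MonoidHom.mk' (fun g => ⟨M g, hmem g⟩) fun g h =>
    Subtype.ext (Matrix.ext_of_mulVec_single fun i => by
      show M (g * h) *ᵥ _ = (M g * M h) *ᵥ _
      rw [← Matrix.mulVec_mulVec, hM, hM, hM, ← hoffg g _ (hz0 h _ (hin _))]
      rfl)
  have hinj : Function.Injective Φ₀ := by
    rw [injective_iff_map_eq_one]
    intro g hg
    have hg' : ∀ x, planeOff k (g.1.1.1 (planeIn k x)) = x := fun x => by
      rw [← hM, show M g = 1 from congrArg Subtype.val hg, Matrix.one_mulVec]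
    have hfixH : ∀ x, x (Sum.inr 1) = 0 → g.1.1.1 x = x := by
      intro x hx
      set t := g.1.1.1 x (Sum.inr 0) + x (Sum.inr 0)
      have e : g.1.1.1 x = x + t • v0.1 := by
        funext i
        rcases i with i | j
        · have h1 := congrFun ((hoffg g x hx).trans (hg' (planeOff k x))) i
          simpa [planeOff, hv0] using h1
        · fin_cases j
          · simp [t, hv0]
            linear_combination -(x (Sum.inr 0)) * (CharTwo.add_self_eq_zero (1 : F))
          · simp [hv0, hz0 g x hx, hx]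
      have hq := apply_quad g.1.1 x
      rw [e, quad_add', quad_smul', v0.2, polar_smul_r', polar_comm _ x, hv0, polar_base, hx, mul_zero,
        mul_zero, add_zero, mul_one] at hq
      have ht : t = 0 := (pow_eq_zero_iff two_ne_zero).1 (by linear_combination hq)
      rw [e, ht, zero_smul, add_zero]
    set z : (Fin k ⊕ Fin k) ⊕ Fin 2 → F := Pi.single (Sum.inr 1) 1
    set d := g.1.1.1 z + z
    have hzz : ∀ x : (Fin k ⊕ Fin k) ⊕ Fin 2 → F, x = (x - x (Sum.inr 1) • z) + x (Sum.inr 1) • z :=
      fun x => by abel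
    have hzz0 : ∀ x : (Fin k ⊕ Fin k) ⊕ Fin 2 → F, (x - x (Sum.inr 1) • z) (Sum.inr 1) = 0 := fun x => by simp [z]
    have hd : ∀ x, x (Sum.inr 1) = 0 → polar (minusForm F k a b) d x = 0 := by
      intro x hx
      rw [polar_add_left]
      conv_lhs => arg 1; rw [← hfixH x hx]
      rw [polar_isom, CharTwo.add_self_eq_zero]
    have hd1 : d (Sum.inr 1) = 0 := by
      have h := hd v0.1 (by simp [hv0])
      rw [polar_comm, hv0, polar_base] at h
      exact (mul_eq_zero.1 h).resolve_left ha
    have hdv : d = d (Sum.inr 0) • v0.1 := by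
      have h0 : planeOff k d = 0 := by
        have hs := sympBil_nondegenerate (F := F) k
        refine hs.1 _ fun u => ?_
        rw [sympBil_apply]
        have h := hd (planeIn k u) (hin u)
        rw [hpolar _ _ hd1 (hin u), hoff] at h
        exact h
      funext i
      rcases i with i | j
      · simpa [hv0, planeOff] using congrFun h0 i
      · fin_cases j
        · simp [hv0]
        · simpa [hv0] using hd1
    set μ := d (Sum.inr 0)
    have hgz : g.1.1.1 z = z + μ • v0.1 := by
      rw [← hdv]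
      simp only [d]
      have : z + z = 0 := by nth_rewrite 1 [← neg_self F z]; exact neg_add_cancel _
      calc g.1.1.1 z = g.1.1.1 z + (z + z) := by rw [this, add_zero]
        _ = _ := by abel
    have hq := apply_quad g.1.1 z
    rw [hgz, quad_add', quad_smul', v0.2, polar_smul_r', polar_comm _ z, hv0, polar_base, mul_one] at hq
    simp only [z, Pi.single_eq_same, mul_one] at hq
    have hμ : μ * (μ + a) = 0 := by linear_combination hq
    rcases mul_eq_zero.1 hμ with h | h
    · refine Subtype.ext (Subtype.ext (Subtype.ext (LinearEquiv.ext fun x => ?_)))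
      show g.1.1.1 x = x
      conv_lhs => rw [hzz x, map_add, map_smul, hfixH _ (hzz0 x), hgz, h, zero_smul, add_zero]
      exact (hzz x).symm
    · exfalso
      have hμa : μ = a := CharTwo.add_eq_zero.1 h
      have hr : g.1.1 = refl (minusForm F k a b) v0.1 := by
        refine Subtype.ext (LinearEquiv.ext fun x => ?_)
        have e1 : polar (minusForm F k a b) v0.1 x = a * x (Sum.inr 1) := by rw [hv0, polar_base]
        rw [refl_apply, v0.2, inv_one, one_mul, e1]
        conv_lhs => rw [hzz x, map_add, map_smul, hfixH _ (hzz0 x), hgz, hμa]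
        rw [smul_add, smul_smul, ← add_assoc, ← hzz x, sub_eq_add_neg, mul_comm, neg_self F]
      have h1 := (mem_commutator_two hQ h4 κ hκ g.1.1).1 g.1.2
      rw [hr, hκ _ (by rw [v0.2]; exact one_ne_zero)] at h1
      exact one_ne_zero (Multiplicative.ofAdd.injective (h1.trans ofAdd_zero.symm))
  have hsurj : Function.Surjective Φ₀ := by
    rw [← MonoidHom.range_eq_top, eq_top_iff, ← closure_sympTransvection, Subgroup.closure_le]
    rintro A ⟨w, c, hA⟩
    by_cases hc : c = 0
    · rw [show A = 1 from Subtype.ext (by rw [hA, hc]; simp [Cfsg.sympTransvection])]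
      exact one_mem _
    obtain ⟨μ, hμ⟩ := FiniteField.isSquare_of_char_two (ringChar.eq F 2)
      (minusForm F k a b (planeIn k w) + c⁻¹)
    set p := planeIn k w + μ • v0.1 with hp
    have hQp : minusForm F k a b p = c⁻¹ := by
      rw [hp, quad_add', quad_smul', v0.2, polar_smul_r', polar_comm, hv0, polar_base, hin, mul_zero, mul_zero,
        add_zero, mul_one, ← hμ, ← add_assoc, CharTwo.add_self_eq_zero, zero_add]
    have hp0 : minusForm F k a b p ≠ 0 := by rw [hQp]; exact inv_ne_zero hc
    have hpv : polar (minusForm F k a b) p v0.1 = 0 := by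
      rw [hp, polar_add_left, polar_smul_l', polar_self2, mul_zero, add_zero, polar_comm, hv0, polar_base, hin,
        mul_zero]
    have hmemc : refl (minusForm F k a b) p * refl _ v0.1 ∈ commutator (orthGroup (minusForm F k a b)) := by
      rw [mem_commutator_two hQ h4 κ hκ, map_mul, hκ _ hp0, hκ _ (by rw [v0.2]; exact one_ne_zero), ← ofAdd_add,
        CharTwo.add_self_eq_zero, ofAdd_zero]
    have hst : (⟨_, hmemc⟩ : ↥(commutator (orthGroup (minusForm F k a b)))) ∈ St := by
      refine Subtype.ext ?_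
      show (refl _ p).1 ((refl _ v0.1).1 v0.1) = v0.1
      rw [refl_self _ (by rw [v0.2]; exact one_ne_zero), neg_self F, refl_fix _ hpv]
    refine ⟨⟨_, hst⟩, Subtype.ext (Matrix.ext_of_mulVec_single fun i => ?_)⟩
    show M _ *ᵥ _ = A.1 *ᵥ _
    rw [hM, hA]
    set x : Fin k ⊕ Fin k → F := Pi.single i 1
    show planeOff k ((refl _ p).1 ((refl _ v0.1).1 (planeIn k x))) = _
    rw [refl_fix _ (a := v0.1) (by rw [hv0, polar_base, hin, mul_zero]), refl_apply, hQp, inv_inv, map_sub,
      map_smul, hoff, sympTransvection_mulVec, tv_apply, sympBil_apply, sub_eq_add_neg, neg_self F]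
    have h1 : polar (minusForm F k a b) p (planeIn k x) = Cfsg.sympForm k F w x := by
      rw [hp, polar_add_left, polar_smul_l', hv0, polar_base, hin, mul_zero, mul_zero, add_zero, polar_planeIn]
    have h2 : Cfsg.sympForm k F w x = Cfsg.sympForm k F x w := by
      rw [← sympBil_apply, ← sympBil_apply, ← (sympBil_isAlt k).neg, CharTwo.neg_eq]
    have h3 : planeOff k p = w := by
      rw [hp, map_add, map_smul, hoff, hoff0, smul_zero, add_zero]
    rw [h1, h2, h3]
  exact ⟨MulEquiv.ofBijective Φ₀ ⟨hinj, hsurj⟩, hM⟩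

end CfsgLib.Schur.MinusOrth
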