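import Cfsg.Agent.Lib.Schur.MinusOrth.EvenGraph

/-!
# The graph in characteristic two: transitivity and the hypotheses of `GraphT`
-/

set_option autoImplicit false
set_option linter.unusedSectionVars false

open QuadraticMap Module CfsgLib.Orth CfsgLib.Classical CfsgLib.Schur.OddOrth

namespace CfsgLib.Schur.MinusOrth

variable {F V : Type*} [Field F] [Fintype F] [CharP F 2] [AddCommGroup V] [Module F V] [FiniteDimensional F V]
  {Q : QuadraticForm F V}

/-- The embedding detects the commutator subgroups. -/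
theorem embHom_mem_commutator_iff_two {W : Type*} [AddCommGroup W] [Module F W] [FiniteDimensional F W]
    {R : QuadraticForm F W} (T : W →ₗ[F] V) (hT : ∀ w, Q (T w) = R w)
    (hR : (QuadraticMap.polarBilin R).Nondegenerate) (hQ : (QuadraticMap.polarBilin Q).Nondegenerate)
    (h4 : Good F V) (h4' : Good F W) (J : orthGroup R →* orthGroup Q)
    (hJ : ∀ a, J (refl R a) = refl Q (T a)) (g : orthGroup R) :
    J g ∈ commutator (orthGroup Q) ↔ g ∈ commutator (orthGroup R) := by
  obtain ⟨κ, hκ⟩ := exists_dickson (Q := Q) hQ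
  obtain ⟨κ', hκ'⟩ := exists_dickson (Q := R) hR
  rw [mem_commutator_two hQ h4 κ hκ, mem_commutator_two hR h4' κ' hκ',
    hom_comp_eq_of_refl hR h4' J κ' κ (fun a ha => by rw [hJ, hκ _ (by rwa [hT]), hκ' a ha]) g]

variable (hQ : (QuadraticMap.polarBilin Q).Nondegenerate) (hn : 8 ≤ finrank F V)
include hQ hn

/-- Transitivity on small independent families. -/
theorem trans_indep {k : ℕ} (hk : 2 * k + 2 ≤ finrank F V) (a b : Fin k → Pt Q)
    (ha : LinearIndependent F fun i => (a i).1) (hb : LinearIndependent F fun i => (b i).1)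
    (hp : ∀ i j, polar Q (a i).1 (a j).1 = polar Q (b i).1 (b j).1) :
    ∃ g : commutator (orthGroup Q), ∀ i, g • a i = b i := by
  have h4 : Good F V := good_of (Or.inr (by omega))
  obtain ⟨g, -, hg⟩ := witt_family hQ h4 (fun i => (a i).1) (fun i => (b i).1) ha hb
    (fun i => by rw [(a i).2, (b i).2]) hp
  let S : Subgroup (orthGroup Q) :=
    { carrier := {s | ∀ i, s.1 (b i).1 = (b i).1}
      mul_mem' := fun {s t} hs ht i => by show s.1 (t.1 _) = _; rw [ht i, hs i]
      one_mem' := fun _ => rfl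
      inv_mem' := fun {s} hs i => by
        conv_lhs => rw [← hs i]
        exact s.1.symm_apply_apply _ }
  have hW : finrank F (Submodule.span F (Set.range fun i => (b i).1)) = k :=
    (finrank_span_eq_card hb).trans (Fintype.card_fin k)
  have hle := Submodule.finrank_mono (show Submodule.span F (Set.range fun i => (b i).1) ⊓
    LinearMap.BilinForm.orthogonal (QuadraticMap.polarBilin Q) (Submodule.span F (Set.range fun i => (b i).1)) ≤
      Submodule.span F (Set.range fun i => (b i).1) from inf_le_left)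
  obtain ⟨d, hQd, hd⟩ := exists_one hQ (fun i => (b i).1) hb (fun _ => 0) (by omega) 1
  obtain ⟨s, hs, hse⟩ := exists_mem_ab_eq hQ h4 S (fun c hc =>
    ⟨refl Q d, fun i => refl_fix Q (hd i),
      ab_refl_eq hQ h4 (by rw [hQd]; exact one_ne_zero) hc
        (FiniteField.isSquare_of_char_two (ringChar.eq F 2) _)⟩) g⁻¹
  refine ⟨⟨s * g, by rw [mem_commutator_iff, map_mul, hse, map_inv, inv_mul_cancel]⟩, fun i => Subtype.ext ?_⟩
  show s.1 (g.1 (a i).1) = (b i).1
  rw [hg i]
  exact hs i

/-- Common neighbours. -/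
theorem exists_common2 (v x : Pt Q) : ∃ u : Pt Q, Adj2 v u ∧ Adj2 u x ∧ u.1 ≠ v.1 + x.1 := by
  by_cases hvx : v = x
  · subst hvx
    obtain ⟨y, hy, hnot⟩ := exists_new_small hQ hn ![v.1]
      (LinearIndependent.of_subsingleton 0 fun e : v.1 = 0 => by simpa [e] using v.2) (by omega) (fun _ => 1)
    refine ⟨y, adj2_of (hy 0), hy 0, fun e => hnot ?_⟩
    rw [e]
    exact add_mem (Submodule.subset_span ⟨0, rfl⟩) (Submodule.subset_span ⟨0, rfl⟩)
  · obtain ⟨y, hy, hnot⟩ := exists_new_small hQ hn ![v.1, x.1] (li_pair hvx) (by omega) (fun _ => 1)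
    refine ⟨y, adj2_of (hy 0), hy 1, fun e => hnot ?_⟩
    rw [e]
    exact add_mem (Submodule.subset_span ⟨0, rfl⟩) (Submodule.subset_span ⟨1, rfl⟩)

theorem path_four (hidx : finrank F V ≤ 8 → ∀ U : Submodule F V, (∀ u ∈ U, Q u = 0) → finrank F U ≤ 3)
    {v x u w : Pt Q} (hvu : Adj2 v u) (hux : Adj2 u x) (hvw : Adj2 v w) (hwx : Adj2 w x)
    (hli : LinearIndependent F ![v.1, x.1, u.1, w.1]) :
    Relation.ReflTransGen (fun a b => Adj2 a b ∧ Adj2 v b ∧ Adj2 b x ∧ Tri2 v a b ∧ Tri2 b a x) u w := by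
  have hvu' : polar Q v.1 u.1 = 1 := hvu
  have hux' : polar Q u.1 x.1 = 1 := hux
  have hvw' : polar Q v.1 w.1 = 1 := hvw
  have hwx' : polar Q w.1 x.1 = 1 := hwx
  have key : ∀ {a b : Pt Q}, Adj2 v a → Adj2 a x → Adj2 v b → Adj2 b x →
      LinearIndependent F ![v.1, x.1, a.1, b.1] → (polar Q v.1 x.1 ≠ 0 ∨ polar Q a.1 b.1 ≠ 0) →
      Relation.ReflTransGen (fun a b => Adj2 a b ∧ Adj2 v b ∧ Adj2 b x ∧ Tri2 v a b ∧ Tri2 b a x) a b := by
    intro a b hva hax hvb hbx hli hps
    have hW : finrank F (Submodule.span F (Set.range ![v.1, x.1, a.1, b.1])) = 4 :=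
      (finrank_span_eq_card hli).trans (Fintype.card_fin 4)
    have hrad := finrank_radical_add_two (Q := Q) (Submodule.span F (Set.range ![v.1, x.1, a.1, b.1]))
      (v := v.1) (u := a.1) (Submodule.subset_span ⟨0, rfl⟩) (Submodule.subset_span ⟨2, rfl⟩) hva (polar_self2 _)
      (polar_self2 _)
    obtain ⟨y0, hQy, hy⟩ := exists_one hQ ![v.1, x.1, a.1, b.1] hli (fun _ => 1) (by omega) 1
    have hy0 : polar Q y0 v.1 = 1 := hy 0
    have hy1 : polar Q y0 x.1 = 1 := hy 1
    have hy2 : polar Q y0 a.1 = 1 := hy 2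
    have hy3 : polar Q y0 b.1 = 1 := hy 3
    have hav : polar Q a.1 v.1 = 1 := adj2_symm hva
    have hxa : polar Q x.1 a.1 = 1 := adj2_symm hax
    have hxb : polar Q x.1 b.1 = 1 := adj2_symm hbx
    have h11 : (1 : F) + 1 = 0 := CharTwo.add_self_eq_zero 1
    refine path_two (y := ⟨y0, hQy⟩) (adj2_of hy0) hy1 (adj2_of hy2) hy3 hvb hbx ?_ ?_ ?_ ?_
    · intro e
      rcases hps with h | h
      · apply h
        rw [show y0 = v.1 + a.1 from e, polar_add_left, show polar Q a.1 x.1 = 1 from hax] at hy1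
        linear_combination hy1
      · apply h
        rw [show y0 = v.1 + a.1 from e, polar_add_left, show polar Q v.1 b.1 = 1 from hvb] at hy3
        linear_combination hy3
    · intro e
      rcases hps with h | h
      · apply h
        rw [show y0 = a.1 + x.1 from e, polar_add_left, hav, polar_comm Q x.1 v.1] at hy0
        linear_combination hy0
      · apply h
        rw [show y0 = a.1 + x.1 from e, polar_add_left, hxb] at hy3
        linear_combination hy3
    · intro e
      rcases hps with h | h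
      · apply h
        rw [show y0 = v.1 + b.1 from e, polar_add_left, show polar Q b.1 x.1 = 1 from hbx] at hy1
        linear_combination hy1
      · apply h
        rw [show y0 = v.1 + b.1 from e, polar_add_left, show polar Q v.1 a.1 = 1 from hva,
          polar_comm Q b.1 a.1] at hy2
        linear_combination hy2
    · intro e
      rcases hps with h | h
      · apply h
        rw [show y0 = b.1 + x.1 from e, polar_add_left, polar_comm Q b.1 v.1,
          show polar Q v.1 b.1 = 1 from hvb, polar_comm Q x.1 v.1] at hy0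
        linear_combination hy0
      · apply h
        rw [show y0 = b.1 + x.1 from e, polar_add_left, hxa, polar_comm Q b.1 a.1] at hy2
        linear_combination hy2
  by_cases hps : polar Q v.1 x.1 ≠ 0 ∨ polar Q u.1 w.1 ≠ 0
  · exact key hvu hux hvw hwx hli hps
  push Not at hps
  obtain ⟨hp, hs⟩ := hps
  have hW : finrank F (Submodule.span F (Set.range ![v.1, x.1, u.1, w.1])) = 4 :=
    (finrank_span_eq_card hli).trans (Fintype.card_fin 4)
  by_cases hc : ∃ c : F, c ≠ 0 ∧ c ≠ 1
  · obtain ⟨c, hc0, hc1⟩ := hc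
    have hrad := finrank_radical_add_two (Q := Q) (Submodule.span F (Set.range ![v.1, x.1, u.1, w.1]))
      (v := v.1) (u := u.1) (Submodule.subset_span ⟨0, rfl⟩) (Submodule.subset_span ⟨2, rfl⟩) hvu (polar_self2 _)
      (polar_self2 _)
    obtain ⟨y0, hQy, hy⟩ := exists_one hQ ![v.1, x.1, u.1, w.1] hli ![1, 1, 1, c] (by omega) 1
    let y : Pt Q := ⟨y0, hQy⟩
    have hy0 : polar Q y0 v.1 = 1 := hy 0
    have hy1 : polar Q y0 x.1 = 1 := hy 1
    have hy2 : polar Q y0 u.1 = 1 := hy 2
    have hy3 : polar Q y0 w.1 = c := hy 3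
    have hvy : Adj2 v y := adj2_of hy0
    have hyu : y0 ≠ v.1 + u.1 := by
      intro e
      rw [e, polar_add_left, hvw', hs, add_zero] at hy3
      exact hc1 hy3.symm
    have hyx : y0 ≠ u.1 + x.1 := by
      intro e
      rw [e, polar_add_left, hs, show polar Q x.1 w.1 = 1 from adj2_symm hwx, zero_add] at hy3
      exact hc1 hy3.symm
    refine (Relation.ReflTransGen.single ⟨adj2_of hy2, hvy, hy1, sum_ne F hyu, fun e => sum_ne F
      hyx (by rw [← e]; abel)⟩).trans (key hvy hy1 hvw hwx ?_ (Or.inr ?_))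
    · rw [Fintype.linearIndependent_iff]
      intro g hg
      simp only [Fin.sum_univ_four, Matrix.cons_val_zero, Matrix.cons_val_one, Matrix.cons_val] at hg
      have hev := congrArg (polar Q v.1) hg
      have hey := congrArg (polar Q y0) hg
      have hew := congrArg (polar Q w.1) hg
      simp only [polar_add_right, polar_smul_r', polar_zero_right, polar_self2, mul_zero, zero_add, add_zero,
        hp, hvw', hwx', show polar Q v.1 y.1 = 1 from hvy, hy0, hy1, hy3, polar_comm Q w.1 v.1,
        polar_comm Q w.1 y0, mul_one, show y.1 = y0 from rfl, show polar Q v.1 y0 = 1 from hvy]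
        at hev hey hew
      have h23 : g 2 = g 3 := CharTwo.add_eq_zero.1 hev
      by_cases h30 : g 3 = 0
      · have h20 : g 2 = 0 := h23.trans h30
        have h2' := LinearIndependent.pair_iff.1 (li_pair (Q := Q) (v := v) (x := x) (fun e => by
          subst e
          exact one_ne_zero ((Fintype.linearIndependent_iff.1 hli ![1, -1, 0, 0] (by
            simp [Fin.sum_univ_four])) 0))) (g 0) (g 1)
        rw [h20, h30, zero_smul, zero_smul, add_zero, add_zero] at hg
        intro i
        fin_cases i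
        · exact (h2' hg).1
        · exact (h2' hg).2
        · exact h20
        · exact h30
      exfalso
      set α := g 0 / g 3
      set β := g 1 / g 3
      have hy' : y0 = α • v.1 + β • x.1 + w.1 := by
        have e : g 2 • y0 = g 0 • v.1 + g 1 • x.1 + g 3 • w.1 := by
          rw [← neg_self F (g 2 • y0), neg_eq_iff_add_eq_zero, ← hg]
          abel
        rw [h23] at e
        rw [← inv_smul_smul₀ h30 y0, e, smul_add, smul_add, smul_smul, smul_smul, inv_smul_smul₀ h30]
        simp only [α, β, div_eq_inv_mul]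
      have hab : α + β = c := by
        rw [hy', polar_add_left, polar_add_left, polar_smul_l', polar_smul_l', polar_self2, hvw',
          show polar Q x.1 w.1 = 1 from adj2_symm hwx] at hy3
        linear_combination hy3
      have hQ1 := hQy
      rw [hy', quad_add', quad_add', quad_smul', quad_smul', polar_smul_l', polar_smul_r', polar_add_left,
        polar_smul_l', polar_smul_l', hp, hvw', show polar Q x.1 w.1 = 1 from adj2_symm hwx, v.2, x.2, w.2]
        at hQ1
      have h11 : (1 : F) + 1 = 0 := CharTwo.add_self_eq_zero 1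
      have hcc : c * (c + 1) = 0 := by
        linear_combination hQ1 - (1 + α + β + c) * hab + (α * β) * h11
      rcases mul_eq_zero.1 hcc with h | h
      · exact hc0 h
      · exact hc1 (CharTwo.add_eq_zero.1 h)
    · show polar Q y0 w.1 ≠ 0
      rw [hy3]; exact hc0
  · push Not at hc
    obtain ⟨y, hvy, hyx, huy, hyw, hnot⟩ := exists_step_two hQ hn hidx
      (fun c => (em (c = 0)).imp_right (hc c)) hvu hux hvw hwx hli hp hs
    have hm : ∀ i, ![v.1, x.1, u.1, w.1] i ∈ Submodule.span F (Set.range ![v.1, x.1, u.1, w.1]) :=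
      fun i => Submodule.subset_span ⟨i, rfl⟩
    exact path_two hvy hyx huy hyw hvw hwx (fun e => hnot (e ▸ add_mem (hm 0) (hm 2)))
      (fun e => hnot (e ▸ add_mem (hm 2) (hm 1))) (fun e => hnot (e ▸ add_mem (hm 0) (hm 3)))
      (fun e => hnot (e ▸ add_mem (hm 3) (hm 1)))

/-- The good common neighbours of two points are connected. -/
theorem link2 (hidx : finrank F V ≤ 8 → ∀ U : Submodule F V, (∀ u ∈ U, Q u = 0) → finrank F U ≤ 3)
    {v x u w : Pt Q} (hvu : Adj2 v u) (hux : Adj2 u x) (hgu : u.1 ≠ v.1 + x.1) (hvw : Adj2 v w)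
    (hwx : Adj2 w x) (hgw : w.1 ≠ v.1 + x.1) :
    Relation.ReflTransGen (fun a b => Adj2 a b ∧ Adj2 v b ∧ Adj2 b x ∧ Tri2 v a b ∧ Tri2 b a x) u w := by
  by_cases hvx : v = x
  · subst hvx
    have direct : ∀ {a b : Pt Q}, Adj2 v a → Adj2 v b → b.1 ≠ v.1 + a.1 →
        Relation.ReflTransGen (fun a b => Adj2 a b ∧ Adj2 v b ∧ Adj2 b v ∧ Tri2 v a b ∧ Tri2 b a v) a b := by
      intro a b hva hvb hne
      by_cases hab : a = b
      · subst hab; exact Relation.ReflTransGen.refl
      have hli : LinearIndependent F ![v.1, b.1, a.1] := by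
        rw [Fintype.linearIndependent_iff]
        intro g hg
        simp only [Fin.sum_univ_three, Matrix.cons_val_zero, Matrix.cons_val_one, Matrix.cons_val] at hg
        have hev := congrArg (polar Q v.1) hg
        simp only [polar_add_right, polar_smul_r', polar_zero_right, polar_self2, mul_zero, zero_add,
          show polar Q v.1 b.1 = 1 from hvb, show polar Q v.1 a.1 = 1 from hva, mul_one] at hev
        have h12 : g 1 = g 2 := CharTwo.add_eq_zero.1 hev
        by_cases h1 : g 1 = 0
        · rw [← h12, h1, zero_smul, zero_smul, add_zero, add_zero] at hg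
          intro i
          fin_cases i
          · exact (smul_eq_zero.1 hg).resolve_right fun e => by simpa [e] using v.2
          · exact h1
          · exact h12.symm.trans h1
        exfalso
        rw [← h12] at hg
        set α := g 0 / g 1
        have hb : b.1 = α • v.1 + a.1 := by
          have e : g 1 • b.1 = g 0 • v.1 + g 1 • a.1 := by
            rw [← neg_self F (g 1 • b.1), neg_eq_iff_add_eq_zero, ← hg]
            abel
          rw [← inv_smul_smul₀ h1 b.1, e, smul_add, smul_smul, inv_smul_smul₀ h1]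
          simp only [α, div_eq_inv_mul]
        have hQb := b.2
        rw [hb, quad_add', quad_smul', polar_smul_l', v.2, a.2, show polar Q v.1 a.1 = 1 from hva] at hQb
        have hα : α * (α + 1) = 0 := by linear_combination hQb
        rcases mul_eq_zero.1 hα with h | h
        · rw [h, zero_smul, zero_add] at hb
          exact hab (Subtype.ext hb.symm)
        · rw [CharTwo.add_eq_zero.1 h, one_smul] at hb
          exact hne hb
      obtain ⟨y, hy, hnot⟩ := exists_new_of_pair hQ hn ![v.1, b.1, a.1] hli 0 1 hvb (by omega) (fun _ => 1)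
      have hm : ∀ i, ![v.1, b.1, a.1] i ∈ Submodule.span F (Set.range ![v.1, b.1, a.1]) :=
        fun i => Submodule.subset_span ⟨i, rfl⟩
      exact path_two (adj2_of (hy 0)) (hy 0) (adj2_of (hy 2)) (hy 1) hvb (adj2_symm hvb)
        (fun e => hnot (e ▸ add_mem (hm 0) (hm 2))) (fun e => hnot (e ▸ add_mem (hm 2) (hm 0)))
        (fun e => hnot (e ▸ add_mem (hm 0) (hm 1))) (fun e => hnot (e ▸ add_mem (hm 1) (hm 0)))
    by_cases hw : w.1 = v.1 + u.1
    · have hne : v ≠ u := fun e => by
        subst e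
        have : polar Q v.1 v.1 = 1 := hvu
        rw [polar_self2] at this
        exact zero_ne_one this
      obtain ⟨y, hy, hnot⟩ := exists_new_of_pair hQ hn ![v.1, u.1] (li_pair hne) 0 1 hvu (by omega) (fun _ => 1)
      have hm : ∀ i, ![v.1, u.1] i ∈ Submodule.span F (Set.range ![v.1, u.1]) :=
        fun i => Submodule.subset_span ⟨i, rfl⟩
      refine (direct hvu (adj2_of (hy 0)) fun e => hnot (e ▸ add_mem (hm 0) (hm 1))).trans
        (direct (adj2_of (hy 0)) hvw fun e => hnot ?_)
      have h1 : y.1 = u.1 := by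
        rw [hw] at e
        exact (add_left_cancel e).symm
      rw [h1]; exact hm 1
    · exact direct hvu hvw hw
  have hli := li_triple hvu hux hvx hgu
  have hli' := li_triple hvw hwx hvx hgw
  by_cases hw : w.1 ∈ Submodule.span F (Set.range ![v.1, x.1, u.1])
  · obtain ⟨y, hy, hnot⟩ := exists_new_of_pair hQ hn ![v.1, x.1, u.1] hli 0 2 hvu (by omega) (fun _ => 1)
    have hm : ∀ i, ![v.1, x.1, u.1] i ∈ Submodule.span F (Set.range ![v.1, x.1, u.1]) :=
      fun i => Submodule.subset_span ⟨i, rfl⟩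
    have hvy : Adj2 v y := adj2_of (hy 0)
    have hyx : Adj2 y x := hy 1
    refine (Relation.ReflTransGen.single ⟨adj2_of (hy 2), hvy, hyx,
      sum_ne F fun e => hnot (e ▸ add_mem (hm 0) (hm 2)),
      fun e => sum_ne F (fun e' => hnot (e' ▸ add_mem (hm 2) (hm 1)) : y.1 ≠ u.1 + x.1) (by rw [← e]; abel)⟩).trans ?_
    refine path_four hQ hn hidx hvy hyx hvw hwx (li_four (li_triple hvy hyx hvx fun e => hnot ?_) fun hmem => ?_)
    · rw [e]; exact add_mem (hm 0) (hm 1)
    obtain ⟨r, s, t, hrst⟩ := mem_span3.1 hmem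
    by_cases ht : t = 0
    · rw [ht, zero_smul, add_zero] at hrst
      exact absurd (Fintype.linearIndependent_iff.1 hli' ![r, s, -1] (by simp [Fin.sum_univ_three, hrst]) 2)
        (by simp)
    · refine hnot ?_
      have e : t • y.1 = w.1 - (r • v.1 + s • x.1) := by rw [← hrst]; abel
      rw [← inv_smul_smul₀ ht y.1, e]
      exact Submodule.smul_mem _ _ (sub_mem hw (add_mem (Submodule.smul_mem _ _ (hm 0))
        (Submodule.smul_mem _ _ (hm 1))))
  · exact path_four hQ hn hidx hvu hux hvw hwx (li_four hli hw)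

/-- A point adjacent to the ends of an edge with cones over both halves. -/
theorem cone2 (v0 : Pt Q) {a b : Pt Q} (hab : Adj2 a b) : ∃ c, Adj2 a c ∧ Adj2 c b ∧ Tri2 a c b ∧
    (∃ u, Adj2 v0 u ∧ Adj2 u a ∧ Adj2 u c ∧ u.1 ≠ v0.1 + a.1 ∧ u.1 ≠ v0.1 + c.1 ∧ Tri2 u a c) ∧
    ∃ u, Adj2 v0 u ∧ Adj2 u c ∧ Adj2 u b ∧ u.1 ≠ v0.1 + c.1 ∧ u.1 ≠ v0.1 + b.1 ∧ Tri2 u c b := by
  have hne : a ≠ b := fun e => by
    subst e
    have : polar Q a.1 a.1 = 1 := hab
    rw [polar_self2] at this
    exact zero_ne_one this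
  have hv0 : v0.1 ≠ 0 := fun e => by simpa [e] using v0.2
  -- the cone over an edge whose end is outside the line of `v0` and the other end
  have cone : ∀ {p c : Pt Q}, Adj2 p c → c.1 ∉ Submodule.span F (Set.range ![v0.1, p.1]) →
      ∃ u : Pt Q, Adj2 v0 u ∧ Adj2 u p ∧ Adj2 u c ∧ u.1 ≠ v0.1 + p.1 ∧ u.1 ≠ v0.1 + c.1 ∧
        u.1 ≠ p.1 + c.1 := by
    intro p c hpc hc
    have hpc' : p ≠ c := fun e => hc (e ▸ Submodule.subset_span ⟨1, rfl⟩)
    by_cases hvp : v0 = p
    · subst hvp
      obtain ⟨u, hu, hnot⟩ := exists_new_of_pair hQ hn ![v0.1, c.1] (li_pair hpc') 0 1 hpc (by omega) (fun _ => 1)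
      have hm : ∀ i, ![v0.1, c.1] i ∈ Submodule.span F (Set.range ![v0.1, c.1]) :=
        fun i => Submodule.subset_span ⟨i, rfl⟩
      exact ⟨u, adj2_of (hu 0), hu 0, hu 1, fun e => hnot (e ▸ add_mem (hm 0) (hm 0)),
        fun e => hnot (e ▸ add_mem (hm 0) (hm 1)), fun e => hnot (e ▸ add_mem (hm 0) (hm 1))⟩
    · have hli : LinearIndependent F ![v0.1, p.1, c.1] := by
        rw [Fintype.linearIndependent_iff]
        intro g hg
        simp only [Fin.sum_univ_three, Matrix.cons_val_zero, Matrix.cons_val_one, Matrix.cons_val] at hg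
        have h2 : g 2 = 0 := by
          by_contra h2
          refine hc ((Submodule.mem_span_range_iff_exists_fun F).2 ⟨![-(g 0 / g 2), -(g 1 / g 2)], ?_⟩)
          have e : g 2 • c.1 = -(g 0 • v0.1 + g 1 • p.1) := eq_neg_of_add_eq_zero_right hg
          rw [← inv_smul_smul₀ h2 c.1, e]
          simp [Fin.sum_univ_two, smul_smul, div_eq_inv_mul, add_comm]
        rw [h2, zero_smul, add_zero] at hg
        have h := LinearIndependent.pair_iff.1 (li_pair hvp) _ _ hg
        intro i
        fin_cases i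
        exacts [h.1, h.2, h2]
      obtain ⟨u, hu, hnot⟩ := exists_new_of_pair hQ hn ![v0.1, p.1, c.1] hli 1 2 hpc (by omega) (fun _ => 1)
      have hm : ∀ i, ![v0.1, p.1, c.1] i ∈ Submodule.span F (Set.range ![v0.1, p.1, c.1]) :=
        fun i => Submodule.subset_span ⟨i, rfl⟩
      exact ⟨u, adj2_of (hu 0), hu 1, hu 2, fun e => hnot (e ▸ add_mem (hm 0) (hm 1)),
        fun e => hnot (e ▸ add_mem (hm 0) (hm 2)), fun e => hnot (e ▸ add_mem (hm 1) (hm 2))⟩
  obtain ⟨c, hca, hcb, hca', hcb', hcT⟩ : ∃ c : Pt Q, Adj2 c a ∧ Adj2 c b ∧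
      c.1 ∉ Submodule.span F (Set.range ![v0.1, a.1]) ∧ c.1 ∉ Submodule.span F (Set.range ![v0.1, b.1]) ∧
      c.1 ≠ a.1 + b.1 := by
    by_cases hv : v0.1 ∈ Submodule.span F (Set.range ![a.1, b.1])
    · obtain ⟨c, hc, hnot⟩ := exists_new_of_pair hQ hn ![a.1, b.1] (li_pair hne) 0 1 hab (by omega) (fun _ => 1)
      refine ⟨c, hc 0, hc 1, fun h => hnot (Submodule.span_le.2 ?_ h), fun h => hnot (Submodule.span_le.2 ?_ h),
        fun e => hnot (e ▸ add_mem (Submodule.subset_span ⟨0, rfl⟩) (Submodule.subset_span ⟨1, rfl⟩))⟩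
      · rintro _ ⟨i, rfl⟩
        fin_cases i
        exacts [hv, Submodule.subset_span ⟨0, rfl⟩]
      · rintro _ ⟨i, rfl⟩
        fin_cases i
        exacts [hv, Submodule.subset_span ⟨1, rfl⟩]
    · have hli : LinearIndependent F ![a.1, b.1, v0.1] := by
        rw [Fintype.linearIndependent_iff]
        intro g hg
        simp only [Fin.sum_univ_three, Matrix.cons_val_zero, Matrix.cons_val_one, Matrix.cons_val] at hg
        have h2 : g 2 = 0 := by
          by_contra h2
          refine hv ((Submodule.mem_span_range_iff_exists_fun F).2 ⟨![-(g 0 / g 2), -(g 1 / g 2)], ?_⟩)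
          have e : g 2 • v0.1 = -(g 0 • a.1 + g 1 • b.1) := eq_neg_of_add_eq_zero_right hg
          rw [← inv_smul_smul₀ h2 v0.1, e]
          simp [Fin.sum_univ_two, smul_smul, div_eq_inv_mul, add_comm]
        rw [h2, zero_smul, add_zero] at hg
        have h := LinearIndependent.pair_iff.1 (li_pair hne) _ _ hg
        intro i
        fin_cases i
        exacts [h.1, h.2, h2]
      obtain ⟨c, hc, hnot⟩ := exists_new_of_pair hQ hn ![a.1, b.1, v0.1] hli 0 1 hab (by omega) (fun _ => 1)
      refine ⟨c, hc 0, hc 1, fun h => hnot (Submodule.span_le.2 ?_ h), fun h => hnot (Submodule.span_le.2 ?_ h),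
        fun e => hnot (e ▸ add_mem (Submodule.subset_span ⟨0, rfl⟩) (Submodule.subset_span ⟨1, rfl⟩))⟩
      · rintro _ ⟨i, rfl⟩
        fin_cases i
        exacts [Submodule.subset_span ⟨2, rfl⟩, Submodule.subset_span ⟨0, rfl⟩]
      · rintro _ ⟨i, rfl⟩
        fin_cases i
        exacts [Submodule.subset_span ⟨2, rfl⟩, Submodule.subset_span ⟨1, rfl⟩]
  refine ⟨c, adj2_symm hca, hcb, fun e => sum_ne F hcT (by rw [← e]; abel), ?_, ?_⟩
  · obtain ⟨u, k1, k2, k3, g1, g2, t⟩ := cone (adj2_symm hca) hca'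
    exact ⟨u, k1, k2, k3, g1, g2, fun e => sum_ne F t (by rw [← e]; abel)⟩
  · obtain ⟨u, k1, k2, k3, g1, g2, t⟩ := cone (adj2_symm hcb) hcb'
    exact ⟨u, k1, k3, k2, g2, g1, fun e => sum_ne F t (by rw [← e]; abel)⟩

end CfsgLib.Schur.MinusOrth
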