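import Cfsg.Agent.Lib.Orth.Stab
import Cfsg.Agent.Lib.Orth.Classify

/-!
# Vectors of norm one with prescribed polar values on a few vectors
-/

set_option autoImplicit false
set_option linter.unusedSectionVars false

open QuadraticMap Module CfsgLib.Orth

namespace CfsgLib.Schur.MinusOrth

variable {F V : Type*} [Field F] [Fintype F] [AddCommGroup V] [Module F V] [FiniteDimensional F V]
  {Q : QuadraticForm F V} (hQ : (QuadraticMap.polarBilin Q).Nondegenerate)
include hQ

omit hQ in
/-- Two vectors with non-zero polar value bound the radical. -/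
theorem finrank_radical_add_two (W : Submodule F V) {v u : V} (hv : v ∈ W) (hu : u ∈ W)
    (hvu : polar Q v u = 1) (hvv : polar Q v v = 0) (huu : polar Q u u = 0) :
    finrank F ↥(W ⊓ LinearMap.BilinForm.orthogonal (QuadraticMap.polarBilin Q) W) + 2 ≤ finrank F W := by
  set B : LinearMap.BilinForm F V := QuadraticMap.polarBilin Q
  set R := W ⊓ B.orthogonal W
  let φ : W →ₗ[F] F × F := ((B v).prod (B u)).comp W.subtype
  have hs : LinearMap.range φ = ⊤ := by
    rw [eq_top_iff]
    rintro ⟨s, t⟩ -
    refine ⟨⟨s • u + t • v, W.add_mem (W.smul_mem _ hu) (W.smul_mem _ hv)⟩, ?_⟩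
    show (polar Q v (s • u + t • v), polar Q u (s • u + t • v)) = (s, t)
    rw [polar_add_right, polar_add_right, polar_smul_r', polar_smul_r', polar_smul_r', polar_smul_r',
      hvu, hvv, huu, polar_comm Q u v, hvu]
    simp
  have hR : R.comap W.subtype ≤ LinearMap.ker φ := fun w hw => by
    rw [LinearMap.mem_ker]
    exact Prod.ext (hw.2 v hv) (hw.2 u hu)
  have h1 := LinearMap.finrank_range_add_finrank_ker φ
  rw [hs, finrank_top, Module.finrank_prod, Module.finrank_self] at h1
  have h2 := Submodule.finrank_mono hR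
  rw [(Submodule.comapSubtypeEquivOfLe (show R ≤ W from inf_le_left)).finrank_eq] at h2
  omega

/-- A complement of the radical in the orthogonal of `W`, and vectors with given values on `W`
orthogonal to it. -/
theorem exists_split {k : ℕ} (f : Fin k → V) (hf : LinearIndependent F f) (c : Fin k → F) :
    ∃ (C : Submodule F V) (u : V),
      (∀ i, polar Q u (f i) = c i) ∧ (∀ t ∈ C, polar Q u t = 0) ∧ (∀ t ∈ C, ∀ i, polar Q t (f i) = 0) ∧
      (QuadraticMap.polarBilin (Q.comp C.subtype)).Nondegenerate ∧
      finrank F V = finrank F C + k +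
        finrank F ↥(Submodule.span F (Set.range f) ⊓
          LinearMap.BilinForm.orthogonal (QuadraticMap.polarBilin Q) (Submodule.span F (Set.range f))) := by
  set B : LinearMap.BilinForm F V := QuadraticMap.polarBilin Q
  set W := Submodule.span F (Set.range f)
  have hrefl : B.IsRefl := fun x y hxy => by
    change polar Q y x = 0
    rw [polar_comm]; exact hxy
  set O := B.orthogonal W
  set R := W ⊓ O
  have hO : ∀ {t}, t ∈ O ↔ ∀ w ∈ W, polar Q w t = 0 := fun {t} => Iff.rfl
  obtain ⟨C0, hC0⟩ := Submodule.exists_isCompl (R.comap O.subtype)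
  set C := C0.map O.subtype
  have hCO : C ≤ O := Submodule.map_subtype_le O C0
  have hkey : ∀ t ∈ C, (∀ s ∈ C, polar Q t s = 0) → t = 0 := by
    rintro _ ⟨t, ht, rfl⟩ hts
    have hall : ∀ z ∈ O, polar Q (t : V) z = 0 := by
      intro z hz
      have hz' : (⟨z, hz⟩ : O) ∈ R.comap O.subtype ⊔ C0 := hC0.sup_eq_top ▸ Submodule.mem_top
      obtain ⟨r, hr, s, hs, hrs⟩ := Submodule.mem_sup.1 hz'
      have hz2 : z = (r : V) + (s : V) := (congrArg Subtype.val hrs).symm
      rw [hz2, polar_add_right, show polar Q (t : V) (r : V) = 0 from by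
        rw [polar_comm]; exact hO.1 t.2 _ hr.1, zero_add]
      exact hts _ ⟨s, hs, rfl⟩
    have h1 : (t : V) ∈ B.orthogonal O := fun z hz => hrefl _ _ (hall z hz)
    rw [LinearMap.BilinForm.orthogonal_orthogonal hQ hrefl] at h1
    have h2 : t ∈ R.comap O.subtype ⊓ C0 := ⟨⟨h1, t.2⟩, ht⟩
    rw [hC0.inf_eq_bot, Submodule.mem_bot] at h2
    rw [h2]; rfl
  have hC : (QuadraticMap.polarBilin (Q.comp C.subtype)).Nondegenerate := nondegenerate_of_left fun t ht =>
    Subtype.ext (hkey t t.2 fun s hs => by
      have := ht ⟨s, hs⟩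
      simpa [polar, QuadraticMap.comp_apply] using this)
  let φ : W →ₗ[F] F := (Basis.span hf).constr F c
  obtain ⟨ψ, hψ⟩ := LinearMap.exists_extend φ
  obtain ⟨u0, hu0⟩ := exists_polar_eq hQ ψ
  obtain ⟨d, hd⟩ := exists_polar_eq hC ((B u0).comp C.subtype)
  have hdC : ∀ s : C, polar Q (d : V) s = polar Q u0 s := fun s => by
    have := hd s
    simpa [B, polar, QuadraticMap.comp_apply] using this
  refine ⟨C, u0 - d, fun i => ?_, fun t ht => ?_, fun t ht i => ?_, hC, ?_⟩
  · have hi : f i ∈ W := Submodule.subset_span ⟨i, rfl⟩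
    rw [polar_sub_left, hu0, show polar Q (d : V) (f i) = 0 from by
      rw [polar_comm]; exact hO.1 (hCO d.2) _ hi, sub_zero]
    have h1 : ψ (f i) = φ ⟨f i, hi⟩ := LinearMap.congr_fun hψ ⟨f i, hi⟩
    rw [h1, show (⟨f i, hi⟩ : W) = Basis.span hf i from (Basis.span_apply hf i).symm,
      Basis.constr_basis]
  · rw [polar_sub_left, hdC ⟨t, ht⟩, sub_self]
  · rw [polar_comm]; exact hO.1 (hCO ht) _ (Submodule.subset_span ⟨i, rfl⟩)
  · have hW : finrank F W = k := (finrank_span_eq_card hf).trans (Fintype.card_fin k)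
    have h1 : finrank F O = finrank F V - finrank F W := LinearMap.BilinForm.finrank_orthogonal hQ W
    have h2 := Submodule.finrank_add_eq_of_isCompl hC0
    rw [(Submodule.comapSubtypeEquivOfLe (show R ≤ O from inf_le_right)).finrank_eq] at h2
    have h3 : finrank F C = finrank F C0 :=
      (Submodule.equivMapOfInjective O.subtype O.injective_subtype C0).finrank_eq.symm
    have h4 := Submodule.finrank_le W
    omega

/-- A vector of given value with the given values, the complement having dimension at least two. -/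
theorem exists_one {k : ℕ} (f : Fin k → V) (hf : LinearIndependent F f) (c : Fin k → F)
    (h : k + finrank F ↥(Submodule.span F (Set.range f) ⊓
          LinearMap.BilinForm.orthogonal (QuadraticMap.polarBilin Q) (Submodule.span F (Set.range f))) + 2 ≤
      finrank F V) (v : F) :
    ∃ u, Q u = v ∧ ∀ i, polar Q u (f i) = c i := by
  obtain ⟨C, u, hu, huC, hCf, hC, hd⟩ := exists_split hQ f hf c
  have hrad : finrank F ↥(C ⊓ LinearMap.BilinForm.orthogonal (QuadraticMap.polarBilin Q) C) = 0 := by
    rw [Submodule.finrank_eq_zero, eq_bot_iff]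
    rintro t ⟨ht, ht'⟩
    refine Submodule.mem_bot F |>.2 (congrArg Subtype.val (eq_zero_of_polar hC (v := ⟨t, ht⟩) fun s => ?_))
    rw [polar_comm]
    have h1 : polar Q (s : V) t = 0 := ht' _ s.2
    simpa [polar, QuadraticMap.comp_apply] using h1
  obtain ⟨t, ht, hQt⟩ := exists_value (Q := Q) C (by omega) (v - Q u)
  refine ⟨u + t, by rw [quad_add', huC t ht, hQt]; ring, fun i => ?_⟩
  rw [polar_add_left, hu, hCf t ht, add_zero]

/-- The same outside the span, the complement having dimension at least three. -/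
theorem exists_one_new {k : ℕ} (f : Fin k → V) (hf : LinearIndependent F f) (c : Fin k → F)
    (h : k + finrank F ↥(Submodule.span F (Set.range f) ⊓
          LinearMap.BilinForm.orthogonal (QuadraticMap.polarBilin Q) (Submodule.span F (Set.range f))) + 3 ≤
      finrank F V) (v : F) :
    ∃ u, Q u = v ∧ (∀ i, polar Q u (f i) = c i) ∧ u ∉ Submodule.span F (Set.range f) := by
  obtain ⟨C, u, hu, huC, hCf, hC, hd⟩ := exists_split hQ f hf c
  obtain ⟨e, he0, hQe⟩ := CfsgLib.Orth.exists_singular hC (by omega)
  have hQe' : Q (e : V) = 0 := hQe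
  obtain ⟨g, hg⟩ : ∃ g : C, polar Q (e : V) g = 1 := by
    by_contra hall
    push Not at hall
    refine he0 (eq_zero_of_polar hC fun w => ?_)
    have h1 : polar (Q.comp C.subtype) e w = polar Q (e : V) w := by simp [polar, QuadraticMap.comp_apply]
    rw [h1]
    by_contra hne
    refine hall ((polar Q (e : V) w)⁻¹ • w) ?_
    rw [Submodule.coe_smul, polar_smul_r', inv_mul_cancel₀ hne]
  set t := (g : V) + (v - Q u - Q (g : V)) • (e : V) with ht
  have htC : t ∈ C := C.add_mem g.2 (C.smul_mem _ e.2)
  have hQt : Q t = v - Q u := by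
    rw [ht, quad_add', quad_smul', polar_smul_r', polar_comm Q (g : V), hg, hQe']; ring
  refine ⟨u + t, by rw [quad_add', huC t htC, hQt]; ring,
    fun i => by rw [polar_add_left, hu, hCf t htC, add_zero], fun hmem => ?_⟩
  have h0 : ∀ w ∈ Submodule.span F (Set.range f), polar Q (e : V) w = 0 := by
    intro w hw
    induction hw using Submodule.span_induction with
    | mem w hw => obtain ⟨i, rfl⟩ := hw; exact hCf e e.2 i
    | zero => exact polar_zero_right (Q := Q) _
    | add p q _ _ hp hq => rw [polar_add_right, hp, hq, add_zero]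
    | smul r p _ hp => rw [polar_smul_r', hp, mul_zero]
  have h1 := h0 _ hmem
  rw [polar_add_right, show polar Q (e : V) u = 0 from by rw [polar_comm]; exact huC e e.2, ht, polar_add_right,
    hg, polar_smul_r', polar_self', hQe', mul_zero, mul_zero, add_zero, zero_add] at h1
  exact one_ne_zero h1

end CfsgLib.Schur.MinusOrth
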