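import Cfsg.Agent.Lib.Schur.SpSix.Main
import Cfsg.Agent.Lib.Schur.SpinLift

/-!
# Two commuting involutions of `Sp₆(2)` whose lifts to the double cover do not commute
-/

set_option autoImplicit false
set_option maxRecDepth 100000

namespace CfsgLib.Schur.MinusOrth.SpTwo

open CfsgLib.AltCover CfsgLib.Schur.Sporadic.SpSix Matrix CliffordAlgebra
open scoped commutatorElement

/-- The transvection along the third basis vector, as a map. -/
def fOne (x : V) : V := x + x (.inr 2) • Pi.single (.inl 2) 1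

/-- The other involution, as a map. -/
def fTwo (x : V) : V := x + x (.inr 0) • Pi.single (.inl 1) 1 + x (.inr 1) • Pi.single (.inl 0) 1

/-- The transpositions of the first one. -/
def swOne : List (Fin 28 × Fin 28) := [(0, 16), (1, 17), (4, 20), (5, 21), (8, 24), (9, 25)]

/-- The transpositions of the second one. -/
def swTwo : List (Fin 28 × Fin 28) :=
  [(0, 8), (1, 5), (2, 10), (3, 7), (4, 9), (6, 11), (13, 23), (14, 19), (15, 27), (16, 24), (17, 21), (20, 25)]

/-- The transpositions of the product. -/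
def swProd : List (Fin 28 × Fin 28) :=
  [(0, 24), (1, 21), (2, 10), (3, 7), (4, 25), (5, 17), (6, 11), (8, 16), (9, 20), (13, 23), (14, 19), (15, 27)]

theorem sw_ok : ((swOne.flatMap fun s => [s.1, s.2]).Nodup ∧ swOne.length = 6) ∧
    ((swTwo.flatMap fun s => [s.1, s.2]).Nodup ∧ swTwo.length = 12) ∧
    ((swProd.flatMap fun s => [s.1, s.2]).Nodup ∧ swProd.length = 12) ∧
    (∀ i : Fin 28, SpinLift.swapProd swProd i = SpinLift.swapProd swOne (SpinLift.swapProd swTwo i)) := by
  decide +kernel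

theorem fOne_ok : ∀ j : Fin 28, num (fun x => qn (Fin.ofNat 64 (minusList.getD j 0)) (fOne x)) =
    Fin.ofNat 64 (minusList.getD (SpinLift.swapProd swOne j : Fin 28) 0) := by
  decide +kernel

theorem fTwo_ok : ∀ j : Fin 28, num (fun x => qn (Fin.ofNat 64 (minusList.getD j 0)) (fTwo x)) =
    Fin.ofNat 64 (minusList.getD (SpinLift.swapProd swTwo j : Fin 28) 0) := by
  decide +kernel

theorem f_invol : (∀ x : V, fOne (fOne x) = x) ∧ ∀ x : V, fTwo (fTwo x) = x := by decide +kernel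

/-- The permutation of an involution given as a map. -/
theorem psiM_eq (A : G) (f : V → V) (hf : ∀ x, A.1 *ᵥ x = f x) (hff : ∀ x, f (f x) = x)
    (L : List (Fin 28 × Fin 28)) (hL : ∀ j : Fin 28, num (fun x => qn (Fin.ofNat 64 (minusList.getD j 0)) (f x)) =
      Fin.ofNat 64 (minusList.getD (SpinLift.swapProd L j : Fin 28) 0)) :
    psiM A = SpinLift.swapProd L := by
  refine Equiv.ext fun i => minusEquiv.injective (Subtype.ext ?_)
  show (minusEquiv (minusEquiv.symm ((psi A).subtypePerm (fun x => isMinus_psi A x) (minusEquiv i)))).1 = _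
  rw [Equiv.apply_symm_apply]
  show psi A (Fin.ofNat 64 (minusList.getD i 0)) =
    Fin.ofNat 64 (minusList.getD (SpinLift.swapProd L i : Fin 28) 0)
  rw [psi_apply, ← hL i]
  refine congrArg num (funext fun x => congrArg (qn _) ?_)
  have h : A.1 *ᵥ ((A⁻¹ : G).1 *ᵥ x) = x := by
    rw [mulVec_mulVec, show A.1 * (A⁻¹ : G).1 = ((A * A⁻¹ : G)).1 from rfl, mul_inv_cancel,
      show ((1 : G)).1 = 1 from rfl, one_mulVec]
  rw [hf] at h
  calc (A⁻¹ : G).1 *ᵥ x = f (f ((A⁻¹ : G).1 *ᵥ x)) := (hff _).symm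
    _ = f x := by rw [h]

/-- A product of evenly many disjoint transpositions lifts to its product of root vectors. -/
theorem exists_cover_lift {n : ℕ} (L : List (Fin n × Fin n)) (hnd : (L.flatMap fun s => [s.1, s.2]).Nodup)
    (hpar : Even L.length) :
    ∃ c : cover n, (proj n c : Equiv.Perm (Fin n)) = SpinLift.swapProd L ∧
      (((c : (Alg n)ˣ) : Alg n) * (c : (Alg n)ˣ)) = ((-1 : ℤ) ^ L.length.choose 2) • 1 := by
  obtain ⟨h1, h2, h3, h4, h5, -⟩ := SpinLift.vecProd_spec L hnd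
  have h2' : reverse (SpinLift.vecProd L) * SpinLift.vecProd L = 1 := by
    have hrev : reverse (SpinLift.vecProd L) = ((-1 : ℤ) ^ L.length.choose 2) • SpinLift.vecProd L := by
      refine left_inv_eq_right_inv ?_ h2 |>.symm
      rw [smul_mul_assoc, h5, smul_smul, ← pow_add, Even.neg_one_pow ⟨_, rfl⟩, one_smul]
    rw [hrev, smul_mul_assoc, h5, smul_smul, ← pow_add, Even.neg_one_pow ⟨_, rfl⟩, one_smul]
  have hsign : Equiv.Perm.sign (SpinLift.swapProd L) = 1 := by rw [h4, hpar.neg_one_pow]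
  have hspec : ∀ l, SpinLift.vecProd L * e l = e (SpinLift.swapProd L l) * SpinLift.vecProd L := fun l => by
    rw [h3, hpar.neg_one_pow, one_smul]
  let c : cover n := ⟨⟨SpinLift.vecProd L, reverse (SpinLift.vecProd L), h2, h2'⟩, by
      have h0 : (L.length : ZMod 2) = 0 := by
        obtain ⟨k, hk⟩ := hpar
        rw [hk, Nat.cast_add, CharTwo.add_self_eq_zero]
      rw [h0] at h1
      exact h1, h2, SpinLift.swapProd L, hsign, hspec⟩
  exact ⟨c, perm_unique (x := (c : (Alg n)ˣ)) (proj_spec c) hspec, h5⟩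

/-- The double cover, with lifts of the two involutions that do not commute. -/
theorem exists_cover (A B : G) (hA : ∀ x, A.1 *ᵥ x = fOne x) (hB : ∀ x, B.1 *ᵥ x = fTwo x) :
    ∃ (Γ : Type) (_ : Group Γ) (_ : Finite Γ) (σ : Γ →* G),
      Cfsg.IsStemExtension σ ∧ Nat.card σ.ker = 2 ∧
        ∃ y y' : Γ, σ y = A ∧ σ y' = B ∧ σ.ker ≤ Subgroup.zpowers ⁅y, y'⁆ := by
  classical
  haveI : Finite (cover 28) := finite_cover
  let ιG : G →* alternatingGroup (Fin 28) := psiM.codRestrict _ fun g =>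
    Equiv.Perm.mem_alternatingGroup.2 (range_even ⟨g, rfl⟩)
  have hι : Function.Injective ιG := fun a b h => psiM_injective (congrArg Subtype.val h)
  let eG := MonoidHom.ofInjective hι
  let Γ : Subgroup (cover 28) := ιG.range.comap (proj 28)
  let σ : Γ →* G := eG.symm.toMonoidHom.comp (((proj 28).comp Γ.subtype).codRestrict ιG.range fun x => x.2)
  have hσι : ∀ x : Γ, ιG (σ x) = proj 28 (x : cover 28) := fun x => by
    show ιG (eG.symm _) = _
    rw [MonoidHom.apply_ofInjective_symm]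
    rfl
  have hsurj : Function.Surjective σ := fun g => by
    obtain ⟨x, hx⟩ := proj_surjective (n := 28) (ιG g)
    exact ⟨⟨x, g, hx.symm⟩, hι (by rw [hσι]; exact hx)⟩
  let m : Γ := ⟨minusOne 28, 1, by
    rw [map_one, MonoidHom.mem_ker.1 (ker_proj (n := 28) ▸ Subgroup.mem_zpowers (minusOne 28))]⟩
  have hker : σ.ker = Subgroup.zpowers m := by
    refine le_antisymm (fun x hx => ?_) (Subgroup.zpowers_le.2 ?_)
    · have h1 : (x : cover 28) ∈ Subgroup.zpowers (minusOne 28) := by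
        rw [← ker_proj, MonoidHom.mem_ker, ← hσι, MonoidHom.mem_ker.1 hx, map_one]
      obtain ⟨k, hk⟩ := h1
      exact ⟨k, Subtype.ext (by simpa [m] using hk)⟩
    · refine MonoidHom.mem_ker.2 (hι ?_)
      rw [hσι, map_one]
      exact MonoidHom.mem_ker.1 (ker_proj (n := 28) ▸ Subgroup.mem_zpowers (minusOne 28))
  have hcen : σ.ker ≤ Subgroup.center Γ := by
    rw [hker, Subgroup.zpowers_le, Subgroup.mem_center_iff]
    exact fun g => Subtype.ext (Subgroup.mem_center_iff.1 (minusOne_mem_center (n := 28)) (g : cover 28))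
  have hmm : orderOf m = 2 := by
    rw [← orderOf_injective Γ.subtype Subtype.coe_injective]
    exact orderOf_minusOne
  obtain ⟨⟨n1, l1⟩, ⟨n2, l2⟩, ⟨n3, l3⟩, hcomp⟩ := sw_ok
  obtain ⟨c1, p1, q1⟩ := exists_cover_lift swOne n1 (by rw [l1]; decide)
  obtain ⟨c2, p2, q2⟩ := exists_cover_lift swTwo n2 (by rw [l2]; decide)
  obtain ⟨c3, p3, q3⟩ := exists_cover_lift swProd n3 (by rw [l3]; decide)
  rw [l1, show (-1 : ℤ) ^ (6 : ℕ).choose 2 = -1 by decide, neg_smul, one_smul] at q1
  rw [l2, show (-1 : ℤ) ^ (12 : ℕ).choose 2 = 1 by decide, one_smul] at q2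
  rw [l3, show (-1 : ℤ) ^ (12 : ℕ).choose 2 = 1 by decide, one_smul] at q3
  have hpA := psiM_eq A fOne hA f_invol.1 swOne fOne_ok
  have hpB := psiM_eq B fTwo hB f_invol.2 swTwo fTwo_ok
  let y : Γ := ⟨c1, A, Subtype.ext (hpA.trans p1.symm)⟩
  let y' : Γ := ⟨c2, B, Subtype.ext (hpB.trans p2.symm)⟩
  have e1 : c1 * c1 = minusOne 28 := Subtype.ext (Units.ext q1)
  have e2 : c2 * c2 = 1 := Subtype.ext (Units.ext q2)
  have e3 : c3 * c3 = 1 := Subtype.ext (Units.ext q3)
  have hd : c3⁻¹ * (c1 * c2) ∈ Subgroup.zpowers (minusOne 28) := by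
    rw [← ker_proj, MonoidHom.mem_ker, map_mul, map_inv, map_mul, inv_mul_eq_one]
    refine Subtype.ext (Equiv.ext fun i => ?_)
    rw [Subgroup.coe_mul, p1, p2, p3, Equiv.Perm.mul_apply, hcomp]
  have hmz : ∀ g : cover 28, g * minusOne 28 = minusOne 28 * g :=
    Subgroup.mem_center_iff.1 minusOne_mem_center
  have hm2 : minusOne 28 * minusOne 28 = 1 := by
    have h := pow_orderOf_eq_one (minusOne 28)
    rwa [orderOf_minusOne, pow_two] at h
  have e12 : c1 * c2 * (c1 * c2) = 1 := by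
    obtain ⟨k, hk⟩ := Subgroup.mem_zpowers_iff.1 hd
    have hz := Subgroup.mem_center_iff.1 (zpow_mem minusOne_mem_center k : minusOne 28 ^ k ∈ _) c3
    rw [show c1 * c2 = c3 * minusOne 28 ^ k by rw [hk, mul_inv_cancel_left],
      show c3 * minusOne 28 ^ k * (c3 * minusOne 28 ^ k) = c3 * (minusOne 28 ^ k * c3) * minusOne 28 ^ k by group,
      ← hz, show c3 * (c3 * minusOne 28 ^ k) * minusOne 28 ^ k = c3 * c3 * minusOne 28 ^ (k + k) by group,
      e3, one_mul, show k + k = (2 : ℕ) * k by ring, _root_.zpow_mul, zpow_natCast, pow_two, hm2, _root_.one_zpow]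
  have hcomm : ⁅y, y'⁆ = m := by
    refine Subtype.ext ?_
    show c1 * c2 * c1⁻¹ * c2⁻¹ = minusOne 28
    have i2 : c2⁻¹ = c2 := inv_eq_of_mul_eq_one_right e2
    have i1 : c1⁻¹ = minusOne 28 * c1 := inv_eq_of_mul_eq_one_right (by
      rw [← mul_assoc, hmz, mul_assoc, e1, hm2])
    rw [i2, i1, ← mul_assoc (c1 * c2), hmz, mul_assoc (minusOne 28), mul_assoc (minusOne 28), mul_assoc (c1 * c2),
      e12, mul_one]
  refine ⟨Γ, inferInstance, inferInstance, σ, ⟨hsurj, hcen, ?_⟩, by rw [hker, Nat.card_zpowers, hmm],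
    y, y', hι ?_, hι ?_, by rw [hker, hcomm]⟩
  · rw [hker, Subgroup.zpowers_le, ← hcomm]
    exact Subgroup.commutator_mem_commutator (Subgroup.mem_top y) (Subgroup.mem_top y')
  · rw [hσι]; exact Subtype.ext (p1.trans hpA.symm)
  · rw [hσι]; exact Subtype.ext (p2.trans hpB.symm)

end CfsgLib.Schur.MinusOrth.SpTwo
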