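import Cfsg.Agent.Lib.Schur.MinusOrth.EvenStab
import Cfsg.Agent.Lib.Schur.MinusOrth.SpTwoData

/-!
# Six products of reflections in `O₈⁻(2)`
-/

set_option autoImplicit false
set_option maxRecDepth 100000

open QuadraticMap CfsgLib.Orth

namespace CfsgLib.Schur.MinusOrth.Two

/-- The space. -/
abbrev V8 : Type := (Fin 3 ⊕ Fin 3) ⊕ Fin 2 → ZMod 2

/-- The values of the form. -/
def q8 (x : V8) : ZMod 2 := Cfsg.quadFormMinus 3 (ZMod 2) 1 1 x

/-- The values of the polar form. -/
def b8 (x y : V8) : ZMod 2 :=
  x (.inl (.inl 0)) * y (.inl (.inr 0)) + x (.inl (.inr 0)) * y (.inl (.inl 0)) +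
    (x (.inl (.inl 1)) * y (.inl (.inr 1)) + x (.inl (.inr 1)) * y (.inl (.inl 1))) +
    (x (.inl (.inl 2)) * y (.inl (.inr 2)) + x (.inl (.inr 2)) * y (.inl (.inl 2))) +
    (x (.inr 0) * y (.inr 1) + x (.inr 1) * y (.inr 0))

/-- The action of a product of reflections. -/
def evalL (L : List V8) (x : V8) : V8 := L.foldr (fun p y => y + b8 p y • p) x

/-- The product of the reflections. -/
noncomputable def el (L : List V8) : orthGroup (minusForm (ZMod 2) 3 1 1) := (L.map (refl _)).prod

theorem el_cons (p : V8) (L : List V8) : el (p :: L) = refl _ p * el L := List.prod_cons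

theorem el_apply (L : List V8) (h : ∀ p ∈ L, q8 p = 1) (x : V8) : (el L).1 x = evalL L x := by
  induction L with
  | nil => rfl
  | cons p L ih =>
    have hp : minusForm (ZMod 2) 3 1 1 p = 1 := by
      rw [← minusForm_apply]; exact h p List.mem_cons_self
    have hb : ∀ y, polar (minusForm (ZMod 2) 3 1 1) p y = b8 p y := fun y => by
      rw [minusForm_polar, Fin.sum_univ_three, show (2 : ZMod 2) = 0 from rfl]
      unfold b8
      ring
    have hm : ∀ g g' : orthGroup (minusForm (ZMod 2) 3 1 1), (g * g').1 x = g.1 (g'.1 x) := fun _ _ => rfl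
    have he : evalL (p :: L) x = evalL L x + b8 p (evalL L x) • p := List.foldr_cons ..
    rw [el_cons, hm, ih (fun q hq => h q (List.mem_cons_of_mem p hq)), refl_apply, hp, inv_one, one_mul, hb,
      sub_eq_add_neg, neg_self (ZMod 2), he]

/-- The coordinate vectors. -/
def aV : V8 := Pi.single (.inl (.inl 0)) 1
/-- The coordinate vectors. -/
def bV : V8 := Pi.single (.inl (.inl 1)) 1
/-- The coordinate vectors. -/
def wV : V8 := Pi.single (.inl (.inl 2)) 1
/-- The base point. -/
def zOne : V8 := Pi.single (.inr 0) 1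
/-- The other points of the plane. -/
def zTwo : V8 := Pi.single (.inr 1) 1

/-- The first word. -/
def wOne : List V8 := [wV + zOne, zOne]
/-- Its conjugate. -/
def wTwo : List V8 := [wV + zTwo, zTwo]
/-- The next one. -/
def wThree : List V8 := [wV + (zOne + zTwo), zOne + zTwo]
/-- The other involution. -/
def wZ : List V8 := [aV + zOne, bV + zOne, aV + bV + zOne, zOne]
/-- The rotation of the plane. -/
def wS : List V8 := [zOne, zTwo]

theorem words_ok : ∀ L ∈ [wOne, wTwo, wThree, wZ, wS], (∀ p ∈ L, q8 p = 1) ∧ L.length % 2 = 0 := by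
  decide +kernel

theorem evalL_append (A B : List V8) (x : V8) : evalL (A ++ B) x = evalL A (evalL B x) := List.foldr_append ..

/-- Two words agree when they agree on the coordinate vectors. -/
theorem ext_basis {A B : List V8} (hA : ∀ p ∈ A, q8 p = 1) (hB : ∀ p ∈ B, q8 p = 1)
    (h : ∀ i, evalL A (Pi.single i 1) = evalL B (Pi.single i 1)) (x : V8) : evalL A x = evalL B x := by
  have e : ((el A).1 : V8 →ₗ[ZMod 2] V8) = ((el B).1 : V8 →ₗ[ZMod 2] V8) := LinearMap.pi_ext fun i c => by
    obtain rfl | rfl : c = 0 ∨ c = 1 := by revert c; decide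
    · simp
    · show (el A).1 _ = (el B).1 _
      rw [el_apply A hA, el_apply B hB, h]
  rw [← el_apply A hA, ← el_apply B hB]
  exact LinearMap.congr_fun e x

theorem rel_comm (x : V8) : evalL wOne (evalL wZ x) = evalL wZ (evalL wOne x) := by
  rw [← evalL_append, ← evalL_append]
  exact ext_basis (by decide +kernel) (by decide +kernel) (by decide +kernel) x

theorem rel_prod (x : V8) : evalL wOne (evalL wTwo x) = evalL wThree x := by
  rw [← evalL_append]
  exact ext_basis (by decide +kernel) (by decide +kernel) (by decide +kernel) x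

theorem rel_one (x : V8) : evalL wS (evalL wOne x) = evalL wTwo (evalL wS x) := by
  rw [← evalL_append, ← evalL_append]
  exact ext_basis (by decide +kernel) (by decide +kernel) (by decide +kernel) x

theorem rel_two (x : V8) : evalL wS (evalL wTwo x) = evalL wThree (evalL wS x) := by
  rw [← evalL_append, ← evalL_append]
  exact ext_basis (by decide +kernel) (by decide +kernel) (by decide +kernel) x

theorem rel_z (x : V8) : evalL wS (evalL wZ x) = evalL wZ (evalL wS x) := by
  rw [← evalL_append, ← evalL_append]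
  exact ext_basis (by decide +kernel) (by decide +kernel) (by decide +kernel) x

theorem fix_base : evalL wOne zOne = zOne ∧ evalL wZ zOne = zOne := by decide +kernel

theorem off_one : ∀ x : Fin 3 ⊕ Fin 3 → ZMod 2,
    (fun i => evalL wOne (Sum.elim x 0) (.inl i)) = SpTwo.fOne x := by decide +kernel

theorem off_z : ∀ x : Fin 3 ⊕ Fin 3 → ZMod 2,
    (fun i => evalL wZ (Sum.elim x 0) (.inl i)) = SpTwo.fTwo x := by decide +kernel

end CfsgLib.Schur.MinusOrth.Two
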