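import Cfsg.Agent.Lib.Schur.OddOrth.Spin
import Mathlib.LinearAlgebra.QuadraticForm.Basic

/-!
# Lifts of `-1` to the spin cover

In even dimension `2 l` an element of the commutator subgroup of the pairs over `-1` squares to `(-1) ^ l`.
-/

set_option autoImplicit false
set_option linter.unusedSectionVars false

open QuadraticMap CliffordAlgebra CfsgLib.Orth CfsgLib.Schur.OddOrth

namespace CfsgLib.Schur.MinusOrth

variable {F V : Type*} [Field F] [AddCommGroup V] [Module F V] {Q : QuadraticForm F V}

theorem commute_of_ι {u : CliffordAlgebra Q} (h : ∀ v, u * ι Q v = ι Q v * u) (x : CliffordAlgebra Q) :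
    u * x = x * u := by
  induction x using CliffordAlgebra.induction with
  | algebraMap r => exact (Algebra.commutes r u).symm
  | ι v => exact h v
  | mul a b ha hb => rw [← mul_assoc, ha, mul_assoc, hb, mul_assoc]
  | add a b ha hb => rw [mul_add, add_mul, ha, hb]

variable {n : ℕ} (b : Module.Basis (Fin n) F V) (ho : ∀ i j, i ≠ j → polar Q (b i) (b j) = 0)

/-- The product of some basis vectors. -/
noncomputable def mono (t : List (Fin n)) : CliffordAlgebra Q := (t.map fun i => ι Q (b i)).prod

theorem mono_cons (i : Fin n) (t : List (Fin n)) : mono (Q := Q) b (i :: t) = ι Q (b i) * mono b t := by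
  simp [mono]

theorem mono_append (s t : List (Fin n)) : mono (Q := Q) b (s ++ t) = mono b s * mono b t := by
  simp [mono]

include ho

theorem mono_move {t : List (Fin n)} {i : Fin n} (h : i ∉ t) :
    mono (Q := Q) b t * ι Q (b i) = (-1 : F) ^ t.length • (ι Q (b i) * mono b t) := by
  induction t with
  | nil => simp [mono]
  | cons j t ih =>
    rw [List.mem_cons, not_or] at h
    have e : ι Q (b j) * ι Q (b i) = -(ι Q (b i) * ι Q (b j)) := by
      rw [eq_neg_iff_add_eq_zero, ι_mul_ι_add_swap, ho _ _ (Ne.symm h.1), map_zero]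
    rw [mono_cons, mul_assoc, ih h.2, mul_smul_comm, ← mul_assoc, e, neg_mul, mul_assoc, List.length_cons,
      pow_succ, mul_neg_one, neg_smul, smul_neg]

theorem mono_move_mem {t : List (Fin n)} {i : Fin n} (hd : t.Nodup) (h : i ∈ t) :
    mono (Q := Q) b t * ι Q (b i) = (-1 : F) ^ (t.length + 1) • (ι Q (b i) * mono b t) := by
  obtain ⟨s, r, rfl⟩ := List.append_of_mem h
  rw [List.nodup_append] at hd
  obtain ⟨-, hd2, hd3⟩ := hd
  have hr : i ∉ r := (List.nodup_cons.1 hd2).1
  have hs : i ∉ s := fun hi => hd3 i hi i List.mem_cons_self rfl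
  have h1 := mono_move b ho (t := r) hr
  have h2 : ι Q (b i) * mono b s = (-1 : F) ^ s.length • (mono b s * ι Q (b i)) := by
    rw [mono_move b ho hs, smul_smul, ← mul_pow, neg_one_mul, neg_neg, one_pow, one_smul]
  simp only [mono_append, mono_cons, mul_assoc]
  rw [h1, ← mul_assoc (ι Q (b i)) (mono b s), h2, smul_mul_assoc, smul_smul, mul_smul_comm, mul_smul_comm,
    ← pow_add, List.length_append, List.length_cons, mul_assoc]
  congr 1
  rw [show s.length + (r.length + 1) + 1 + s.length = r.length + 2 * (s.length + 1) by ring, pow_add,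
    pow_mul, neg_one_sq, one_pow, mul_one]

/-- The span of the products of distinct basis vectors. -/
theorem span_mono_eq_top :
    Submodule.span F {x : CliffordAlgebra Q | ∃ t : List (Fin n), t.Nodup ∧ mono b t = x} = ⊤ := by
  set W := Submodule.span F {x : CliffordAlgebra Q | ∃ t : List (Fin n), t.Nodup ∧ mono b t = x}
  have h1 : (1 : CliffordAlgebra Q) ∈ W := Submodule.subset_span ⟨[], List.nodup_nil, rfl⟩
  have hb : ∀ i, ∀ x ∈ W, ι Q (b i) * x ∈ W := by
    intro i x hx
    induction hx using Submodule.span_induction with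
    | mem x hx =>
      obtain ⟨t, ht, rfl⟩ := hx
      by_cases hi : i ∈ t
      · obtain ⟨s, r, rfl⟩ := List.append_of_mem hi
        rw [List.nodup_append] at ht
        obtain ⟨hd1, hd2, hd3⟩ := ht
        have hs : i ∉ s := fun hi => hd3 i hi i List.mem_cons_self rfl
        have e : ι Q (b i) * mono b s = (-1 : F) ^ s.length • (mono b s * ι Q (b i)) := by
          rw [mono_move b ho hs, smul_smul, ← mul_pow, neg_one_mul, neg_neg, one_pow, one_smul]
        rw [mono_append, mono_cons, ← mul_assoc, e, smul_mul_assoc, mul_assoc, ← mul_assoc (ι Q (b i)),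
          ι_sq_scalar, ← Algebra.smul_def, mul_smul_comm, ← mono_append]
        refine W.smul_mem _ (W.smul_mem _ (Submodule.subset_span ⟨s ++ r, ?_, rfl⟩))
        rw [List.nodup_append]
        exact ⟨hd1, (List.nodup_cons.1 hd2).2, fun a ha c hc => hd3 a ha c (List.mem_cons_of_mem _ hc)⟩
      · exact Submodule.subset_span ⟨i :: t, List.nodup_cons.2 ⟨hi, ht⟩, mono_cons b i t⟩
    | zero => rw [mul_zero]; exact W.zero_mem
    | add x y _ _ hx hy => rw [mul_add]; exact W.add_mem hx hy
    | smul c x _ hx => rw [mul_smul_comm]; exact W.smul_mem c hx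
  have hv : ∀ v, ∀ x ∈ W, ι Q v * x ∈ W := fun v x hx => by
    rw [← b.sum_repr v, map_sum, Finset.sum_mul]
    refine W.sum_mem fun i _ => ?_
    rw [map_smul, smul_mul_assoc]
    exact W.smul_mem _ (hb i x hx)
  rw [eq_top_iff]
  rintro x -
  induction x using CliffordAlgebra.left_induction with
  | algebraMap r => rw [Algebra.algebraMap_eq_smul_one]; exact W.smul_mem _ h1
  | add x y hx hy => exact W.add_mem hx hy
  | ι_mul x v hx => exact hv v x hx

variable (hne : ∀ i, Q (b i) ≠ 0) (hev : Even n) (h2 : (2 : F) ≠ 0)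
include hne hev h2

/-- In even dimension only the scalars commute with all vectors. -/
theorem exists_scalar {x : CliffordAlgebra Q} (hx : ∀ v, x * ι Q v = ι Q v * x) :
    ∃ r : F, x = algebraMap F _ r := by
  let φ : Fin n → CliffordAlgebra Q →ₗ[F] CliffordAlgebra Q := fun i =>
    LinearMap.id + (Q (b i))⁻¹ • (LinearMap.mulRight F (ι Q (b i))).comp (LinearMap.mulLeft F (ι Q (b i)))
  let Φ : List (Fin n) → CliffordAlgebra Q →ₗ[F] CliffordAlgebra Q := fun l =>
    l.foldr (fun i f => (φ i).comp f) LinearMap.id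
  have hφ : ∀ i z, φ i z = z + (Q (b i))⁻¹ • (ι Q (b i) * z * ι Q (b i)) := fun i z => rfl
  have hfix : ∀ i, φ i x = (2 : F) • x := fun i => by
    rw [hφ, mul_assoc, hx, ← mul_assoc, ι_sq_scalar, ← Algebra.smul_def, smul_smul,
      inv_mul_cancel₀ (hne i), one_smul, two_smul]
  have hmono : ∀ i, ∀ t : List (Fin n), t.Nodup → φ i (mono b t) =
      (1 + (-1 : F) ^ (if i ∈ t then t.length + 1 else t.length)) • mono b t := by
    intro i t ht
    have e : mono b t * ι Q (b i) =
        (-1 : F) ^ (if i ∈ t then t.length + 1 else t.length) • (ι Q (b i) * mono b t) := by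
      split_ifs with h
      · exact mono_move_mem b ho ht h
      · exact mono_move b ho h
    rw [hφ, mul_assoc, e, mul_smul_comm, ← mul_assoc, ι_sq_scalar, ← Algebra.smul_def, smul_smul, smul_smul,
      add_smul, one_smul]
    congr 2
    rw [mul_assoc, mul_left_comm, inv_mul_cancel₀ (hne i), mul_one]
  have hcons : ∀ i l z, Φ (i :: l) z = φ i (Φ l z) := fun i l z => rfl
  have h1 : ∀ l, Φ l x = (2 : F) ^ l.length • x := by
    intro l
    induction l with
    | nil => simp [Φ]
    | cons i l ih => rw [hcons, ih, map_smul, hfix, smul_smul, List.length_cons, pow_succ]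
  have h0 : ∀ t : List (Fin n), t.Nodup → ∀ l, ∃ r : F, Φ l (mono b t) = r • mono b t ∧
      ((∃ i ∈ l, (-1 : F) ^ (if i ∈ t then t.length + 1 else t.length) = -1) → r = 0) := by
    intro t ht l
    induction l with
    | nil => exact ⟨1, (one_smul F _).symm, fun ⟨i, hi, _⟩ => by simp at hi⟩
    | cons i l ih =>
      obtain ⟨r, hr, hr'⟩ := ih
      refine ⟨r * (1 + (-1 : F) ^ (if i ∈ t then t.length + 1 else t.length)), by
        rw [hcons, hr, map_smul, hmono i t ht, smul_smul], ?_⟩
      rintro ⟨j, hj, hj'⟩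
      rcases List.mem_cons.1 hj with rfl | hj
      · rw [hj', add_neg_cancel, mul_zero]
      · rw [hr' ⟨j, hj, hj'⟩, zero_mul]
  have hall : ∀ z, Φ (List.finRange n) z ∈ Submodule.span F {(1 : CliffordAlgebra Q)} := by
    intro z
    have hz : z ∈ Submodule.span F {y : CliffordAlgebra Q | ∃ t : List (Fin n), t.Nodup ∧ mono b t = y} :=
      span_mono_eq_top b ho ▸ Submodule.mem_top
    induction hz using Submodule.span_induction with
    | mem y hy =>
      obtain ⟨t, ht, rfl⟩ := hy
      obtain ⟨r, hr, hr'⟩ := h0 t ht (List.finRange n)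
      cases t with
      | nil => exact Submodule.mem_span_singleton.2 ⟨r, hr.symm⟩
      | cons j t =>
        rw [hr, hr' ?_, zero_smul]
        · exact Submodule.zero_mem _
        · rcases Nat.even_or_odd (j :: t).length with he | ho'
          · exact ⟨j, List.mem_finRange j, by rw [if_pos List.mem_cons_self, pow_succ, he.neg_one_pow, one_mul]⟩
          · obtain ⟨i, hi⟩ : ∃ i, i ∉ j :: t := by
              by_contra hall
              push Not at hall
              have h3 : (List.finRange n).length ≤ (j :: t).length :=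
                ((List.nodup_finRange n).subperm fun i _ => hall i).length_le
              have h4 := ht.length_le_card
              rw [List.length_finRange] at h3
              rw [Fintype.card_fin] at h4
              exact Nat.not_even_iff_odd.2 ho' (by rwa [le_antisymm h4 h3])
            exact ⟨i, List.mem_finRange i, by rw [if_neg hi, ho'.neg_one_pow]⟩
    | zero => rw [map_zero]; exact Submodule.zero_mem _
    | add p q _ _ hp hq => rw [map_add]; exact Submodule.add_mem _ hp hq
    | smul c p _ hp => rw [map_smul]; exact Submodule.smul_mem _ c hp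
  obtain ⟨r, hr⟩ := Submodule.mem_span_singleton.1 (hall x)
  rw [h1] at hr
  refine ⟨((2 : F) ^ (List.finRange n).length)⁻¹ * r, ?_⟩
  rw [Algebra.algebraMap_eq_smul_one, ← smul_smul, hr, smul_smul,
    inv_mul_cancel₀ (pow_ne_zero _ h2), one_smul]

omit hne hev h2 in
theorem mono_reverse {t : List (Fin n)} :
    mono (Q := Q) b t * reverse (mono b t) = algebraMap F _ (t.map fun i => Q (b i)).prod := by
  induction t with
  | nil => simp [mono]
  | cons i t ih =>
    rw [mono_cons, reverse.map_mul, reverse_ι, mul_assoc, ← mul_assoc (mono b t), ih, Algebra.commutes,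
      ← mul_assoc, ι_sq_scalar, ← map_mul, List.map_cons, List.prod_cons]

omit hne hev h2 in
theorem mono_sq {t : List (Fin n)} (ht : t.Nodup) :
    mono (Q := Q) b t * mono b t =
      algebraMap F _ ((-1 : F) ^ t.length.choose 2 * (t.map fun i => Q (b i)).prod) := by
  induction t with
  | nil => simp [mono]
  | cons i t ih =>
    rw [List.nodup_cons] at ht
    rw [mono_cons, mul_assoc, ← mul_assoc (mono b t), mono_move b ho ht.1, smul_mul_assoc, mul_smul_comm,
      mul_assoc (ι Q (b i)), ih ht.2, ← mul_assoc, ι_sq_scalar, ← map_mul, Algebra.smul_def, ← map_mul,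
      List.length_cons, Nat.choose_succ_succ', Nat.choose_one_right, pow_add, List.map_cons, List.prod_cons]
    congr 1
    ring

omit hne h2 in
theorem mono_anticomm (v : V) :
    mono (Q := Q) b (List.finRange n) * ι Q v = -(ι Q v * mono b (List.finRange n)) := by
  rw [← b.sum_repr v, map_sum, Finset.mul_sum, Finset.sum_mul, ← Finset.sum_neg_distrib]
  refine Finset.sum_congr rfl fun i _ => ?_
  rw [map_smul, mul_smul_comm, smul_mul_assoc, mono_move_mem b ho (List.nodup_finRange n) (List.mem_finRange i),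
    List.length_finRange, pow_succ, hev.neg_one_pow, one_mul, neg_one_smul, smul_neg]

end CfsgLib.Schur.MinusOrth

namespace CfsgLib.Schur.MinusOrth

variable {F V : Type*} [Field F] [AddCommGroup V] [Module F V] [FiniteDimensional F V] {Q : QuadraticForm F V}
  (hQ : (QuadraticMap.polarBilin Q).Nondegenerate) (h2 : (2 : F) ≠ 0)
include hQ h2

theorem exists_ortho_basis :
    ∃ b : Module.Basis (Fin (Module.finrank F V)) F V,
      (∀ i j, i ≠ j → polar Q (b i) (b j) = 0) ∧ ∀ i, Q (b i) ≠ 0 := by
  haveI : Invertible (2 : F) := invertibleOfNonzero h2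
  obtain ⟨b, hb⟩ := LinearMap.BilinForm.exists_orthogonal_basis (B := QuadraticMap.polarBilin Q)
    ⟨fun x y => polar_comm Q x y⟩
  have ho : ∀ i j, i ≠ j → polar Q (b i) (b j) = 0 := fun i j hij => hb hij
  refine ⟨b, ho, fun i hi => b.ne_zero i (eq_zero_of_polar hQ fun w => ?_)⟩
  rw [← b.sum_repr w]
  rw [← QuadraticMap.polarBilin_apply_apply, map_sum]
  refine Finset.sum_eq_zero fun j _ => ?_
  rw [map_smul, QuadraticMap.polarBilin_apply_apply]
  rcases eq_or_ne i j with rfl | hij
  · rw [polar_self', hi, mul_zero, smul_zero]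
  · rw [ho i j hij, smul_zero]

omit h2 hQ [FiniteDimensional F V] in
/-- The norm of an element of the commutator subgroup of the pairs. -/
theorem norm_eq_one {p : spinPairs Q} (hp : p ∈ commutator (spinPairs Q)) :
    (p.1.1 : CliffordAlgebra Q) * reverse (p.1.1 : CliffordAlgebra Q) = 1 := by
  let rv : (CliffordAlgebra Q)ˣ → (CliffordAlgebra Q)ˣ := fun u =>
    ⟨reverse (u : CliffordAlgebra Q), reverse ((u⁻¹ : (CliffordAlgebra Q)ˣ) : CliffordAlgebra Q),
      by rw [← reverse.map_mul, Units.inv_mul, reverse.map_one],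
      by rw [← reverse.map_mul, Units.mul_inv, reverse.map_one]⟩
  have hcen : ∀ (q : spinPairs Q) x, (q.1.1 : CliffordAlgebra Q) * reverse (q.1.1 : CliffordAlgebra Q) * x =
      x * ((q.1.1 : CliffordAlgebra Q) * reverse (q.1.1 : CliffordAlgebra Q)) := fun q x => by
    refine commute_of_ι (fun v => ?_) x
    have h1 := q.2 (((q.1.2⁻¹ : ↥(commutator (orthGroup Q)))).1.1 v)
    rw [show q.1.2.1.1 (((q.1.2⁻¹ : ↥(commutator (orthGroup Q)))).1.1 v) = v from
      q.1.2.1.1.apply_symm_apply v] at h1
    have h3 := congrArg reverse h1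
    rw [reverse.map_mul, reverse.map_mul, reverse_ι, reverse_ι] at h3
    rw [mul_assoc, ← h3, ← mul_assoc, h1, mul_assoc]
  let f : spinPairs Q →* (CliffordAlgebra Q)ˣ := MonoidHom.mk' (fun q : spinPairs Q => ((q.1.1 : (CliffordAlgebra Q)ˣ) * rv q.1.1 : (CliffordAlgebra Q)ˣ)) fun a c =>
    Units.ext (by
      show ((a.1.1 : CliffordAlgebra Q) * (c.1.1 : CliffordAlgebra Q)) * reverse ((a.1.1 : CliffordAlgebra Q) * (c.1.1 : CliffordAlgebra Q)) =
        (a.1.1 : CliffordAlgebra Q) * reverse (a.1.1 : CliffordAlgebra Q) *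
          ((c.1.1 : CliffordAlgebra Q) * reverse (c.1.1 : CliffordAlgebra Q))
      rw [reverse.map_mul, mul_assoc, mul_assoc, ← mul_assoc (c.1.1 : CliffordAlgebra Q), hcen c])
  have hle : commutator (spinPairs Q) ≤ f.ker := by
    show ⁅(⊤ : Subgroup (spinPairs Q)), (⊤ : Subgroup (spinPairs Q))⁆ ≤ f.ker
    rw [Subgroup.commutator_le]
    intro a _ c _
    rw [MonoidHom.mem_ker, map_commutatorElement, commutatorElement_eq_one_iff_mul_comm]
    exact Units.ext (hcen a _)
  exact congrArg Units.val (MonoidHom.mem_ker.1 (hle hp))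

/-- Lifts of `-1` square to `(-1) ^ l`. -/
theorem sq_of_neg {l : ℕ} (hn : Module.finrank F V = 2 * l) {p : spinPairs Q}
    (hp : p ∈ commutator (spinPairs Q)) (hg : ∀ v, p.1.2.1.1 v = -v) :
    (p.1.1 : CliffordAlgebra Q) * (p.1.1 : CliffordAlgebra Q) = algebraMap F _ ((-1 : F) ^ l) := by
  obtain ⟨b, ho, hne⟩ := exists_ortho_basis hQ h2
  have hev : Even (Module.finrank F V) := ⟨l, by omega⟩
  set P := mono (Q := Q) b (List.finRange (Module.finrank F V))
  set z : CliffordAlgebra Q := (p.1.1 : CliffordAlgebra Q)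
  have hz : ∀ v, z * ι Q v = -(ι Q v * z) := fun v => by
    have h1 := p.2 v
    rw [hg, map_neg, neg_mul] at h1
    exact h1
  obtain ⟨k, hk⟩ := exists_scalar b ho hne hev h2 (x := z * P) fun v => by
    rw [mul_assoc, mono_anticomm b ho hev, mul_neg, ← mul_assoc, hz, neg_mul, neg_neg, mul_assoc]
  set c : F := ((List.finRange (Module.finrank F V)).map fun i => Q (b i)).prod with hc
  set ε : F := (-1 : F) ^ (List.finRange (Module.finrank F V)).length.choose 2 with hε
  have hch : ∀ m : ℕ, (-1 : F) ^ (2 * m).choose 2 = (-1 : F) ^ m := by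
    intro m
    induction m with
    | zero => simp
    | succ m ih =>
      rw [show 2 * (m + 1) = (2 * m + 1) + 1 by ring, Nat.choose_succ_succ', Nat.choose_one_right,
        Nat.choose_succ_succ', Nat.choose_one_right, ← add_assoc, pow_add, pow_succ (-1 : F) m, ih,
        show (-1 : F) ^ (2 * m + 1 + 2 * m) = -1 from Odd.neg_one_pow ⟨2 * m, by ring⟩, mul_comm]
  have hεl : ε = (-1 : F) ^ l := by rw [hε, List.length_finRange, hn, hch]
  have hc0 : c ≠ 0 := by
    rw [hc]
    refine List.prod_ne_zero ?_
    intro h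
    obtain ⟨i, -, hi⟩ := List.mem_map.1 h
    exact hne i hi
  have hP : P * P = algebraMap F _ (ε * c) := mono_sq b ho (List.nodup_finRange _)
  have hPr : P * reverse P = algebraMap F _ c := mono_reverse b ho
  have hzP : z * algebraMap F _ (ε * c) = k • P := by
    rw [← hP, ← mul_assoc, hk, Algebra.smul_def]
  have hεc : ε * c ≠ 0 := mul_ne_zero (hεl ▸ pow_ne_zero _ (by simp)) hc0
  have hzP' : z = ((ε * c)⁻¹ * k) • P := by
    rw [← Algebra.commutes, ← Algebra.smul_def] at hzP
    rw [← smul_smul, ← hzP, smul_smul, inv_mul_cancel₀ hεc, one_smul]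
  set μ := (ε * c)⁻¹ * k
  have hN := norm_eq_one hp
  change z * reverse z = 1 at hN
  rw [hzP', map_smul, smul_mul_smul_comm, hPr, Algebra.smul_def, ← map_mul] at hN
  rw [hzP', smul_mul_smul_comm, hP, Algebra.smul_def, ← map_mul, ← hεl]
  rw [show μ * μ * (ε * c) = ε * (μ * μ * c) by ring, map_mul, hN, mul_one]

end CfsgLib.Schur.MinusOrth
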