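import Cfsg.Agent.Lib.Classical.OrthPOmega
import Cfsg.Agent.Lib.Classical.PermModel

/-!
# Transfers of the projective orthogonal groups
-/

set_option autoImplicit false

namespace CfsgLib.Schur.MinusOrth

open CfsgLib.Orth CfsgLib.Classical

/-- An isomorphism carries the central quotient over. -/
noncomputable def centerQuot {G H : Type*} [Group G] [Group H] (e : G ≃* H) :
    G ⧸ Subgroup.center G ≃* H ⧸ Subgroup.center H :=
  QuotientGroup.congr _ _ e (by
    ext x
    simp only [Subgroup.mem_map, Subgroup.mem_center_iff]
    constructor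
    · rintro ⟨z, hz, rfl⟩ g
      obtain ⟨g, rfl⟩ := e.surjective g
      show e g * e z = e z * e g
      rw [← map_mul, ← map_mul, hz g]
    · intro hx
      refine ⟨e.symm x, fun g => e.injective ?_, e.apply_symm_apply x⟩
      rw [map_mul, map_mul, e.apply_symm_apply]
      exact hx _)

/-- A field isomorphism carries the projective orthogonal group over. -/
theorem pomega_congrField {K F : Type*} [Field K] [Field F] {ι : Type} [Fintype ι] [DecidableEq ι] (φ : K ≃+* F)
    {Qk : (ι → K) → K} {Qf : (ι → F) → F} (h : ∀ v, Qf (φ ∘ v) = φ (Qk v)) :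
    Nonempty (Cfsg.POmega K Qk ≃* Cfsg.POmega F Qf) := by
  let E := PermModel.congrField φ h
  have hmap : (Cfsg.Omega K Qk).map E.toMonoidHom = Cfsg.Omega F Qf := by
    show (commutator _).map _ = commutator _
    rw [_root_.commutator_def, Subgroup.map_commutator, Subgroup.map_top_of_surjective _ E.surjective,
      _root_.commutator_def]
  exact ⟨centerQuot ((E.subgroupMap _).trans (MulEquiv.subgroupCongr hmap))⟩

end CfsgLib.Schur.MinusOrth
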