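import Cfsg.Agent.Lib.Schur.MinusOrth.OddStab
import Cfsg.Agent.Lib.Schur.MinusOrth.SpinCentre
import Cfsg.Agent.Lib.Schur.MinusOrth.Transfer

/-!
# The multiplier of `PΩ⁻` in odd characteristic
-/

set_option autoImplicit false
set_option linter.unusedSectionVars false

open QuadraticMap Module CfsgLib.Orth CfsgLib.Classical CfsgLib.Schur.OddOrth

namespace CfsgLib.Schur.MinusOrth

universe u

variable {F : Type u} [Field F] [Fintype F]

theorem neg_one_ne_one {V : Type*} [AddCommGroup V] [Module F V] (Q : QuadraticForm F V) (h2 : (2 : F) ≠ 0) :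
    algebraMap F (CliffordAlgebra Q) (-1) ≠ 1 := fun h => by
  haveI : Invertible (2 : F) := invertibleOfNonzero h2
  have h4 := congrArg (CliffordAlgebra.equivExterior Q) h
  rw [← map_one (algebraMap F (CliffordAlgebra Q))] at h4
  simp only [CliffordAlgebra.equivExterior, CliffordAlgebra.changeFormEquiv_apply] at h4
  rw [CliffordAlgebra.changeForm_algebraMap, CliffordAlgebra.changeForm_algebraMap] at h4
  exact h2 (by linear_combination -((ExteriorAlgebra.algebraMap_inj _ _ _).1 h4))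

theorem gcd_of_case {n : ℕ} (hodd : Fintype.card F % 2 = 1) :
    (¬ IsSquare ((-1 : F) ^ n) → Nat.gcd 4 (Fintype.card F ^ n + 1) = 4) ∧
      (IsSquare ((-1 : F) ^ n) → Nat.gcd 4 (Fintype.card F ^ n + 1) = 2) := by
  have key : (Fintype.card F ^ n + 1) % 4 = 2 ∨ (Fintype.card F ^ n + 1) % 4 = 0 := by
    have h1 : Fintype.card F ^ n % 2 = 1 := by rw [Nat.pow_mod, hodd, one_pow]; rfl
    omega
  have hsq : IsSquare ((-1 : F) ^ n) ↔ (Fintype.card F ^ n + 1) % 4 = 2 := by
    rcases Nat.even_or_odd n with ⟨j, rfl⟩ | ⟨j, rfl⟩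
    · refine iff_of_true ⟨(-1) ^ j, by rw [pow_add]⟩ ?_
      have : Fintype.card F % 4 = 1 ∨ Fintype.card F % 4 = 3 := by omega
      rw [Nat.add_mod, ← two_mul, pow_mul, Nat.pow_mod, Nat.pow_mod (Fintype.card F)]
      rcases this with h | h <;> rw [h] <;> norm_num
    · rw [Odd.neg_one_pow ⟨j, rfl⟩, FiniteField.isSquare_neg_one_iff]
      have : Fintype.card F % 4 = 1 ∨ Fintype.card F % 4 = 3 := by omega
      rw [Nat.add_mod, pow_succ, pow_mul, Nat.mul_mod, Nat.pow_mod, Nat.pow_mod (Fintype.card F)]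
      rcases this with h | h <;> rw [h] <;> norm_num
  constructor
  · intro h
    have h0 : (Fintype.card F ^ n + 1) % 4 = 0 := key.resolve_left fun h' => h (hsq.2 h')
    exact Nat.gcd_eq_left (Nat.dvd_of_mod_eq_zero h0)
  · intro h
    rw [Nat.gcd_rec, hsq.1 h]; rfl

set_option maxHeartbeats 1600000 in
/-- The multiplier, given the bound on perfect central extensions. -/
theorem multiplier_odd {k : ℕ} (hk : 3 ≤ k) {a b : F}
    (hab : ∀ z₁ z₂ : F, z₁ ^ 2 + a * z₁ * z₂ + b * z₂ ^ 2 = 0 → z₁ = 0 ∧ z₂ = 0) (h2 : (2 : F) ≠ 0)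
    (hbound : ∀ (E : Type u) [Group E], commutator E = ⊤ →
      ∀ ξ : E →* ↥(commutator (orthGroup (minusForm F k a b))), Function.Surjective ξ →
      ξ.ker ≤ Subgroup.center E → Finite ξ.ker ∧ Nat.card ξ.ker ≤ 2) :
    Cfsg.HasCyclicSchurMultiplier (Cfsg.POmega F (Cfsg.quadFormMinus k F a b))
      (Nat.gcd 4 (Fintype.card F ^ (k + 1) + 1)) := by
  classical
  set Q := minusForm F k a b with hQdef
  have hQ : (QuadraticMap.polarBilin Q).Nondegenerate := minusForm_nondeg k a b hab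
  have hn : finrank F ((Fin k ⊕ Fin k) ⊕ Fin 2 → F) = 2 * (k + 1) := by
    simp [Module.finrank_pi]; ring
  have hperf := perfect_commutator hQ h2 (by rw [hn]; omega)
  have hodd : Fintype.card F % 2 = 1 :=
    FiniteField.odd_card_of_char_ne_two fun h' => h2 (by
      haveI : CharP F 2 := ringChar.eq_iff.1 h'
      exact CharTwo.two_eq_zero)
  have hb : Q (Pi.single (Sum.inr 0) 1) = 1 := by
    rw [hQdef, ← minusForm_apply]; simp [Cfsg.quadFormMinus, Pi.single_apply]
  obtain ⟨x, hx, hpx⟩ := exists_value_perp_family hQ h2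
    ![(Pi.single (Sum.inr 0) 1 : (Fin k ⊕ Fin k) ⊕ Fin 2 → F)] 0
    (by rw [Matrix.cons_val_zero, hb]; exact one_ne_zero) (by rw [hn]; omega) 1
  obtain ⟨c, hc, hpc⟩ := exists_value_perp_family hQ h2
    ![(Pi.single (Sum.inr 0) 1 : (Fin k ⊕ Fin k) ⊕ Fin 2 → F), x] 0
    (by rw [Matrix.cons_val_zero, hb]; exact one_ne_zero) (by rw [hn]; omega) 1
  obtain ⟨S, σ, hfin, hσ, hS, hσv, z, hz, hz1⟩ := exists_spin_cover hQ h2 hperf hb hx hc
    (by rw [polar_comm]; exact hpx 0) (by rw [polar_comm]; exact hpc 1) (by rw [polar_comm]; exact hpc 0)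
  have hSp := commutator_eq_top hperf σ hσ.1 hσ.2.2
  obtain ⟨hkfin, hle⟩ := hbound S hSp σ hσ.1 hσ.2.1
  haveI := hkfin
  have hk2 : Nat.card σ.ker = 2 := by
    haveI : Nontrivial σ.ker := ⟨⟨z, hz⟩, 1, fun h => hz1 (congrArg Subtype.val h)⟩
    have := Finite.one_lt_card (α := σ.ker)
    omega
  have hcc := card_center σ hσ.1 hσ.2.1 hSp
  rw [hk2] at hcc
  have hp := hypPairs_minus (F := F) k (by omega) a b
  obtain ⟨hg4, hg2⟩ := gcd_of_case (F := F) (n := k + 1) hodd
  suffices hcyc : IsCyclic (Subgroup.center S) ∧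
      Nat.card (Subgroup.center S) = Nat.gcd 4 (Fintype.card F ^ (k + 1) + 1) by
    haveI := hcyc.1
    exact Basic.hasSchurMultiplier_of_mulEquiv (centerQuot (omegaEquiv Q (minusForm_apply k a b)).symm)
      (hasSchurMultiplier_center_quotient hperf σ hσ (fun E _ hE ξ hs hkE => by rw [hk2]; exact hbound E hE ξ hs hkE)
        (mulEquivOfCyclicCardEq (by rw [hcyc.2, Nat.card_congr Multiplicative.toAdd, Nat.card_zmod])))
  by_cases hsq : IsSquare ((-1 : F) ^ (k + 1))
  · rw [card_center_odd_not hQ h2 hp (fun h => (negEl_minus_iff h2 k a b hab).1 h hsq), mul_one] at hcc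
    haveI : Fact (Nat.Prime 2) := ⟨Nat.prime_two⟩
    exact ⟨isCyclic_of_prime_card hcc, hcc.trans (hg2 hsq).symm⟩
  · have hneg := (negEl_minus_iff h2 k a b hab).2 hsq
    rw [card_center_odd_neg hQ h2 hp hneg] at hcc
    obtain ⟨w, hw⟩ := hσ.1 ⟨negEl Q, hneg⟩
    have hwc : w ∈ Subgroup.center S := (comap_center σ hσ.1 hσ.2.1 hSp).le (by
      rw [Subgroup.mem_comap, hw]
      exact Subgroup.mem_center_iff.2 fun g => Subtype.ext (negEl_comm g.1))
    have hgv : ∀ v, w.1.1.2.1.1 v = -v := fun v => by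
      rw [← hσv, hw]
      simp [negEl]
    have hww := sq_of_neg hQ h2 hn (p := w.1) (hS.le w.2) hgv
    rw [Odd.neg_one_pow (by
      rcases Nat.even_or_odd (k + 1) with he | ho
      · exact absurd (by rw [he.neg_one_pow]; exact IsSquare.one) hsq
      · exact ho)] at hww
    have h1 : ¬ w ^ 2 ^ 1 = 1 := fun h => by
      rw [pow_one, pow_two] at h
      have h' : (w.1.1.1 : CliffordAlgebra Q) * (w.1.1.1 : CliffordAlgebra Q) = 1 :=
        congrArg (fun s : S => (s.1.1.1 : CliffordAlgebra Q)) h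
      rw [hww] at h'
      exact neg_one_ne_one Q h2 h'
    have hcard4 : Nat.card (Subgroup.center S) = 4 := by rw [hcc]
    haveI : Finite (Subgroup.center S) := Nat.finite_of_card_ne_zero (by rw [hcard4]; norm_num)
    have h4 : w ^ 2 ^ (1 + 1) = 1 := by
      have e : (⟨w, hwc⟩ : Subgroup.center S) ^ Nat.card (Subgroup.center S) = 1 := pow_card_eq_one'
      rw [hcard4] at e
      exact congrArg Subtype.val e
    have ho := orderOf_eq_prime_pow h1 h4
    refine ⟨isCyclic_of_orderOf_eq_card (⟨w, hwc⟩ : Subgroup.center S) ?_, hcard4.trans (hg4 hsq).symm⟩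
    rw [← Subgroup.orderOf_coe]
    exact ho.trans hcard4.symm

end CfsgLib.Schur.MinusOrth
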