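import Cfsg.Agent.Lib.Schur.OSeven.Main

/-!
# A reflection that inverts a commutator of lifts in the threefold cover

Machine-generated words.
-/

set_option autoImplicit false
set_option maxRecDepth 100000

open CfsgLib.Orth CfsgLib.ThreeTransp.OmegaSeven CfsgLib.Sporadic.CosetCert

namespace CfsgLib.Schur.MinusOrth.Three

open CfsgLib.Schur

/-- The centre of the reflection. -/
def aC : ℕ := 4099

/-- An element of order three. -/
def wA : List (Fin 8) :=
  [0, 1, 4, 2, 6, 3, 7, 0, 1, 4, 2, 6, 3, 7, 0, 1, 4, 2, 6, 3, 7, 0, 1, 4, 2, 6, 3, 7, 0, 1, 4, 2, 6, 3, 7,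
    0, 1, 4, 2, 6, 3, 7]

/-- An element commuting with it. -/
def wB : List (Fin 8) := [0, 1, 7, 6]

/-- The reflections of a word. -/
def refs (w : List (Fin 8)) : List ℕ := (w.map fun x => O7P.letList x.val).flatten

theorem checks : okA aC = true ∧ qN aC = 1 ∧ okL (refs wA) = true ∧ okL (refs wB) = true ∧
    sameL ([aC] ++ refs wA ++ [aC]) (refs wA) = true ∧
    sameL ([aC] ++ refs wB ++ [aC]) (refs wB).reverse = true ∧
    sameL (refs wA ++ refs wB) (refs wB ++ refs wA) = true := by
  decide +kernel

/-- The letters of the commutator. -/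
def wC : List (Fin 8) := wA ++ wB ++ wA.reverse ++ wB.reverse

theorem c_mono : OSeven.tabs.constK (wC.reverse.map Fin.val) 2 = true ∧
    (wC.reverse.map Fin.val).all (fun y => decide (y < 8)) = true := by decide +kernel

theorem toOm_gen (x : Fin 8) : O7P.toOm (OSeven.gen x) = O7P.toOmGen x := by
  unfold O7P.toOm
  exact PresentedGroup.toGroup.of _

theorem coe_toOmGen (x : Fin 8) : (O7P.toOmGen x : orthGroup Q7) = el (O7P.letList x.val) := by
  unfold O7P.toOmGen
  rfl

theorem el_refs : ∀ w : List (Fin 8),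
    (O7P.toOm ((w.map OSeven.gen).prod) : orthGroup Q7) = el (refs w)
  | [] => by rw [List.map_nil, List.prod_nil, map_one, OneMemClass.coe_one]; simp [refs, el]
  | x :: w => by
    rw [List.map_cons, List.prod_cons, map_mul, Subgroup.coe_mul, el_refs w, toOm_gen, coe_toOmGen, ← el_append]
    rfl

theorem proj_wT : ∀ w : List (Fin 8),
    MonoRel.proj OSeven.gen OSeven.psi OSeven.shF OSeven.psi_injective (OSeven.wT w) =
      (w.map OSeven.gen).prod
  | [] => by simp [OSeven.wT]
  | x :: w => by
    rw [show OSeven.wT (x :: w) = OSeven.tg x * OSeven.wT w from rfl, map_mul, MonoRel.proj_cgen, proj_wT w,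
      List.map_cons, List.prod_cons]

end CfsgLib.Schur.MinusOrth.Three
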