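import Cfsg.Agent.Lib.Schur.MinusOrth.OddStab
import Cfsg.Agent.Lib.Schur.MinusOrth.OddThreeData

/-!
# `Ω₈⁻(3)`: the stabilizer's cover has no part of order three

A reflection product normalizing the stabilizer fixes one and inverts the other of two commuting elements
whose lifts to the threefold cover of `Ω₇(3)` do not commute.
-/

set_option autoImplicit false
set_option linter.unusedSectionVars false

open QuadraticMap Module CfsgLib.Orth CfsgLib.Classical CfsgLib.Schur.OddOrth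
open CfsgLib.Sporadic.CosetCert CfsgLib.ThreeTransp.OmegaSeven
open scoped commutatorElement

namespace CfsgLib.Schur.MinusOrth.Three

open CfsgLib.Schur

universe u

set_option maxHeartbeats 1600000 in
/-- If the lifts of the two elements commute up to a sign, the cover is at most twofold. -/
theorem card_ker_le {M : Type u} [Group M] (hM : commutator M = ⊤) (τ : M →* OSeven.G)
    (hs : Function.Surjective τ) (hk : τ.ker ≤ Subgroup.center M) (mA mB : M)
    (hA : τ mA = (wA.map OSeven.gen).prod) (hB : τ mB = (wB.map OSeven.gen).prod)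
    (h : ⁅mA, mB⁆ * ⁅mA, mB⁆ = 1) : Finite τ.ker ∧ Nat.card τ.ker ≤ 2 := by
  classical
  set π := MonoRel.proj OSeven.gen OSeven.psi OSeven.shF OSeven.psi_injective
  let X : Subgroup (M × OSeven.Three) :=
    MonoidHom.eqLocus (τ.comp (MonoidHom.fst M OSeven.Three)) (π.comp (MonoidHom.snd M OSeven.Three))
  let η : X →* OSeven.G := (τ.comp (MonoidHom.fst M OSeven.Three)).comp X.subtype
  have hπs : Function.Surjective π := OSeven.three_spec.1.1
  have hπk : π.ker ≤ Subgroup.center OSeven.Three := OSeven.three_spec.1.2.1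
  have hηs : Function.Surjective η := fun g => by
    obtain ⟨m, hm⟩ := hs g
    obtain ⟨t, ht⟩ := hπs g
    exact ⟨⟨(m, t), hm.trans ht.symm⟩, hm⟩
  have hηk : η.ker ≤ Subgroup.center X := by
    rintro ⟨⟨m, t⟩, hmt⟩ hx
    have h1 : τ m = 1 := hx
    have h2 : π t = 1 := (show τ m = π t from hmt).symm.trans h1
    rw [Subgroup.mem_center_iff]
    rintro ⟨⟨n, s⟩, -⟩
    exact Subtype.ext (Prod.ext (Subgroup.mem_center_iff.1 (hk h1) n) (Subgroup.mem_center_iff.1 (hπk h2) s))
  have hG : commutator OSeven.G = ⊤ := OSeven.isPerfect_G.commutator_eq_top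
  obtain ⟨hmap, hperf⟩ := derived_spec hG η hηs hηk
  let θ : commutator X →* OSeven.G := η.comp (commutator X).subtype
  have hθ : Cfsg.IsStemExtension θ := by
    refine ⟨fun g => ?_, fun z hz => Subgroup.mem_center_iff.2 fun w =>
      Subtype.ext (Subgroup.mem_center_iff.1 (hηk (show (z : X) ∈ η.ker from hz)) w), hperf ▸ le_top⟩
    obtain ⟨x, hx, hxg⟩ : g ∈ (commutator X).map η := hmap ▸ Subgroup.mem_top g
    exact ⟨⟨x, hx⟩, hxg⟩
  obtain ⟨hfin, hdvd⟩ := Basic.card_ker_le_card_mult θ hθ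
  obtain ⟨e6⟩ := Basic.mult_equiv OSeven.hasMultiplier
  have h6 : Nat.card (Basic.Mult OSeven.G) = 6 := by rw [Nat.card_congr e6.toEquiv]; simp
  rw [h6] at hdvd
  let ρ : commutator X →* M := ((MonoidHom.fst M OSeven.Three).comp X.subtype).comp (commutator X).subtype
  have hρ : Function.Surjective ρ := fun m => by
    have h1 : (commutator X).map ((MonoidHom.fst M OSeven.Three).comp X.subtype) = ⊤ := by
      rw [_root_.commutator_def, Subgroup.map_commutator, Subgroup.map_top_of_surjective _ (fun m => by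
        obtain ⟨t, ht⟩ := hπs (τ m)
        exact ⟨⟨(m, t), ht.symm⟩, rfl⟩), ← _root_.commutator_def, hM]
    obtain ⟨x, hx, hxm⟩ : m ∈ (commutator X).map ((MonoidHom.fst M OSeven.Three).comp X.subtype) :=
      h1 ▸ Subgroup.mem_top m
    exact ⟨⟨x, hx⟩, hxm⟩
  haveI := hfin
  let f : θ.ker →* τ.ker := (ρ.comp θ.ker.subtype).codRestrict τ.ker fun x => x.2
  have hf : Function.Surjective f := fun y => by
    obtain ⟨x, hx⟩ := hρ y.1
    exact ⟨⟨x, by rw [MonoidHom.mem_ker]; show τ (ρ x) = 1; rw [hx]; exact y.2⟩, Subtype.ext hx⟩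
  haveI : Finite τ.ker := Finite.of_surjective f hf
  refine ⟨inferInstance, ?_⟩
  -- an element of order three goes to one
  let xA : X := ⟨(mA, OSeven.wT wA), hA.trans (proj_wT wA).symm⟩
  let xB : X := ⟨(mB, OSeven.wT wB), hB.trans (proj_wT wB).symm⟩
  let d : commutator X :=
    ⟨⁅xA, xB⁆, Subgroup.commutator_mem_commutator (Subgroup.mem_top xA) (Subgroup.mem_top xB)⟩
  have hcomm : ⁅(wA.map OSeven.gen).prod, (wB.map OSeven.gen).prod⁆ = 1 := by
    rw [commutatorElement_eq_one_iff_mul_comm]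
    apply O7P.toOm_bijective.1
    refine Subtype.ext ?_
    rw [map_mul, map_mul, Subgroup.coe_mul, Subgroup.coe_mul, el_refs, el_refs, ← el_append, ← el_append]
    obtain ⟨-, -, h1, h2, -, -, h3⟩ := checks
    exact el_eq_of_same (okL_append h1 h2) (okL_append h2 h1) h3
  have hdθ : θ d = 1 := by
    show η ⁅xA, xB⁆ = 1
    rw [map_commutatorElement, show η xA = (wA.map OSeven.gen).prod from hA,
      show η xB = (wB.map OSeven.gen).prod from hB, hcomm]
  let t : θ.ker := ⟨d * d, by rw [MonoidHom.mem_ker, map_mul, hdθ, mul_one]⟩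
  have ht : f t = 1 := by
    refine Subtype.ext ?_
    show ρ (d * d) = 1
    rw [map_mul]
    show (MonoidHom.fst M OSeven.Three).comp X.subtype ⁅xA, xB⁆ *
      (MonoidHom.fst M OSeven.Three).comp X.subtype ⁅xA, xB⁆ = 1
    rw [map_commutatorElement]
    exact h
  let ψ : θ.ker →* OSeven.Three :=
    (((MonoidHom.snd M OSeven.Three).comp X.subtype).comp (commutator X).subtype).comp θ.ker.subtype
  have hz : (⁅OSeven.wT wA, OSeven.wT wB⁆ : OSeven.Three).1 =
      MonoRel.shift 378 3 (Multiplicative.ofAdd 2) := by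
    have e : ⁅OSeven.wT wA, OSeven.wT wB⁆ = OSeven.wT wC := by
      rw [commutatorElement_def, wC, OSeven.wT_append, OSeven.wT_append, OSeven.wT_append, OSeven.wT_reverse,
        OSeven.wT_reverse]
    rw [e, OSeven.wT_val, OSeven.lgN_eval (fun y hy => of_decide_eq_true (List.all_eq_true.1 c_mono.2 y hy))
      c_mono.1]
    rfl
  have hψt : orderOf (ψ t) = 3 := by
    have e : ψ t = ⁅OSeven.wT wA, OSeven.wT wB⁆ * ⁅OSeven.wT wA, OSeven.wT wB⁆ := by
      show ((MonoidHom.snd M OSeven.Three).comp X.subtype) (⁅xA, xB⁆ * ⁅xA, xB⁆) = _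
      rw [map_mul, map_commutatorElement]
      rfl
    rw [e, ← Subgroup.orderOf_coe, Subgroup.coe_mul, hz, ← map_mul,
      orderOf_injective _ (MonoRel.shift_inj (by norm_num : 0 < 378)), ← ofAdd_add,
      orderOf_ofAdd_eq_addOrderOf]
    exact addOrderOf_eq_prime (p := 3) (by decide) (by decide)
  have h3 : 3 ∣ Nat.card f.ker := by
    have h1 : orderOf (ψ t) ∣ orderOf (⟨t, ht⟩ : f.ker) := by
      exact (orderOf_map_dvd ψ t).trans (dvd_of_eq (Subgroup.orderOf_coe (⟨t, ht⟩ : f.ker)))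
    rw [hψt] at h1
    exact h1.trans (orderOf_dvd_natCard _)
  have hcard : Nat.card f.ker * Nat.card τ.ker = Nat.card θ.ker := by
    rw [← f.ker.card_mul_index, Subgroup.index_ker, MonoidHom.range_eq_top.2 hf, Subgroup.card_top]
  have h6' : Nat.card θ.ker ≤ 6 := Nat.le_of_dvd (by norm_num) hdvd
  have hpos : 3 ≤ Nat.card f.ker := Nat.le_of_dvd Nat.card_pos h3
  nlinarith

theorem delta_eq : ∀ a b : ZMod 3, (∀ z₁ z₂ : ZMod 3, z₁ ^ 2 + a * z₁ * z₂ + b * z₂ ^ 2 = 0 → z₁ = 0 ∧ z₂ = 0) →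
    4 * b - a ^ 2 = 1 := by decide

set_option maxHeartbeats 1600000 in
/-- The bound for `Ω₈⁻(3)`. -/
theorem card_ker_le_two {a b : ZMod 3}
    (hab : ∀ z₁ z₂ : ZMod 3, z₁ ^ 2 + a * z₁ * z₂ + b * z₂ ^ 2 = 0 → z₁ = 0 ∧ z₂ = 0) {E : Type u} [Group E]
    (hE : commutator E = ⊤) (ξ : E →* ↥(commutator (orthGroup (minusForm (ZMod 3) 3 a b))))
    (hs : Function.Surjective ξ) (hkE : ξ.ker ≤ Subgroup.center E) :
    Finite ξ.ker ∧ Nat.card ξ.ker ≤ 2 := by
  classical
  have h2 : (2 : ZMod 3) ≠ 0 := by decide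
  set v0 : Pt (minusForm (ZMod 3) 3 a b) := ⟨Pi.single (Sum.inr 0) 1, by
    rw [← minusForm_apply]; simp [Cfsg.quadFormMinus, Pi.single_apply]⟩ with hv0
  have hQ := minusForm_nondeg 3 a b hab
  obtain ⟨J, J', hJJ, hJrefl, hJi, hJr⟩ := exists_stab hab h2 v0 rfl
  obtain ⟨M, τ, hτ, hM, hτs, hτk, hle⟩ := exists_sub hab h2 le_rfl hE ξ hs hkE J' hJi v0 hJr
  -- to the presented group
  let eG : OSeven.G ≃* O7P.Omg := OSeven.equivOmg
  let τ' : M →* OSeven.G := eG.symm.toMonoidHom.comp τ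
  have hτ'k : τ'.ker = τ.ker := MonoidHom.ker_mulEquiv_comp τ eG.symm
  obtain ⟨mA, hmA⟩ := (show Function.Surjective τ' from eG.symm.surjective.comp hτs) (wA.map OSeven.gen).prod
  obtain ⟨mB, hmB⟩ := (show Function.Surjective τ' from eG.symm.surjective.comp hτs) (wB.map OSeven.gen).prod
  have hel : ∀ {m : M} {w : List (Fin 8)}, τ' m = (w.map OSeven.gen).prod → (ξ m).1 = J (el (refs w)) := by
    intro m w hm
    rw [← hτ, hJJ]
    refine congrArg J ?_
    have h1 : τ m = eG (τ' m) := (eG.apply_symm_apply _).symm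
    rw [h1, hm]
    exact el_refs w
  obtain ⟨hok, hq1, hokA, hokB, hrA, hrB, -⟩ := checks
  set x := toVec aC
  have hQx : minusForm (ZMod 3) 3 a b (oddIncl 3 a b x) = 1 := by
    rw [minusForm_oddIncl, show oddForm (ZMod 3) 3 x = 1 by
      have h1 := (qN_eq_iff x (c := 1) (by norm_num)).1 (by rw [ofVec_toVec hok]; exact hq1)
      simpa using h1, mul_one]
    exact delta_eq a b hab
  have hQv : minusForm (ZMod 3) 3 a b v0.1 = 1 := v0.2
  have hmem : refl (minusForm (ZMod 3) 3 a b) (oddIncl 3 a b x) * refl _ v0.1 ∈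
      commutator (orthGroup (minusForm (ZMod 3) 3 a b)) := by
    have h := (prod_refl_mem_commutator_iff hQ h2 [oddIncl 3 a b x, v0.1] (by simp [hQx, hQv])).2
      ⟨by simp, by simp [hQx, hQv]⟩
    simpa using h
  obtain ⟨e, he⟩ := hs ⟨_, hmem⟩
  -- conjugation by the product of the two reflections
  have hconj : ∀ m : M, ∀ g : orthGroup (oddForm (ZMod 3) 3), (ξ m).1 = J g →
      (ξ (e * (m : E) * e⁻¹)).1 = J (refl _ x * g * refl _ x) := by
    intro m g hg
    have hfix : (ξ m).1.1 v0.1 = v0.1 := by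
      have h1 : ξ m ∈ J'.range := ⟨τ m, hτ m⟩
      rw [hJr] at h1
      exact congrArg Subtype.val (MulAction.mem_stabilizer_iff.1 h1)
    have h1 := conj_refl _ (ξ m).1 v0.1
    rw [hfix, mul_inv_eq_iff_eq_mul] at h1
    rw [map_mul, map_mul, map_inv, he]
    show refl _ (oddIncl 3 a b x) * refl _ v0.1 * (ξ m).1 *
      (refl _ (oddIncl 3 a b x) * refl _ v0.1)⁻¹ = _
    rw [mul_inv_rev, refl_inv, refl_inv, mul_assoc (refl _ (oddIncl 3 a b x)), ← h1, map_mul, map_mul,
      hJrefl, ← hg]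
    simp only [mul_assoc]
    rw [← mul_assoc (refl _ v0.1) (refl _ v0.1), refl_mul_self, one_mul]
  have hsingle : el [aC] = refl Q7 x := by simp [el, x]
  have hAc : ξ (e * (mA : E) * e⁻¹) = ξ mA := by
    refine Subtype.ext ?_
    rw [hconj mA _ (hel hmA), hel hmA]
    refine congrArg J ?_
    rw [← hsingle, ← el_append, ← el_append]
    exact el_eq_of_same (okL_append (okL_append (by simp [okL, hok]) hokA) (by simp [okL, hok])) hokA hrA
  have hBc : ξ (e * (mB : E) * e⁻¹) = ξ ((mB : E)⁻¹) := by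
    refine Subtype.ext ?_
    rw [hconj mB _ (hel hmB), map_inv, Subgroup.coe_inv, hel hmB, ← map_inv]
    refine congrArg J ?_
    rw [← hsingle, ← el_append, ← el_append, ← el_reverse]
    exact el_eq_of_same (okL_append (okL_append (by simp [okL, hok]) hokB) (by simp [okL, hok]))
      (okL_reverse hokB) hrB
  set c : E := ⁅(mA : E), (mB : E)⁆
  have hc : c ∈ Subgroup.center E := by
    refine hkE ?_
    rw [MonoidHom.mem_ker, map_commutatorElement, commutatorElement_eq_one_iff_mul_comm]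
    refine Subtype.ext ?_
    show (ξ mA).1 * (ξ mB).1 = (ξ mB).1 * (ξ mA).1
    rw [hel hmA, hel hmB, ← map_mul, ← map_mul, ← el_append, ← el_append]
    refine congrArg J ?_
    obtain ⟨-, -, h1, h2, -, -, h3⟩ := checks
    exact el_eq_of_same (okL_append h1 h2) (okL_append h2 h1) h3
  have hinv : c = ⁅(mA : E), (mB : E)⁻¹⁆ := by
    have h1 : c = ⁅e * (mA : E) * e⁻¹, e * (mB : E) * e⁻¹⁆ := by
      rw [← conjugate_commutatorElement]
      show c = e * c * e⁻¹
      rw [Subgroup.mem_center_iff.1 hc e, mul_inv_cancel_right]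
    rw [h1]
    exact KnownA.SpMultiplier.Pairing.comm_congr hkE hAc hBc
  have hcc : c * c = 1 := by
    have h3 : ⁅(mA : E), (mB : E)⁻¹⁆ = (mB : E)⁻¹ * c⁻¹ * mB := by
      simp only [c, commutatorElement_def]
      group
    rw [h3, Subgroup.mem_center_iff.1 (inv_mem hc) (mB : E)⁻¹, inv_mul_cancel_right] at hinv
    nth_rewrite 1 [hinv]
    exact inv_mul_cancel c
  obtain ⟨hfin, hcard⟩ := card_ker_le hM τ' (eG.symm.surjective.comp hτs) (hτ'k ▸ hτk) mA mB hmA hmB
    (Subtype.ext hcc)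
  haveI := hfin
  rw [hτ'k] at hcard
  haveI : Finite τ.ker := hτ'k ▸ hfin
  let g : ξ.ker → τ.ker := fun z => ⟨⟨z, hle z.2⟩, hJi (by rw [hτ, map_one]; exact z.2)⟩
  have hg : Function.Injective g := fun y z h => Subtype.ext
    (congrArg (fun w : τ.ker => ((w : M) : E)) h)
  exact ⟨Finite.of_injective g hg, (Nat.card_le_card_of_injective g hg).trans hcard⟩

end CfsgLib.Schur.MinusOrth.Three
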