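import Cfsg.Agent.Lib.Schur.MinusOrth.EvenBound
import Cfsg.Agent.Lib.Schur.MinusOrth.OddThree
import Cfsg.Agent.Lib.Schur.MinusOrth.Odd

/-!
# The multiplier of `PΩ⁻_{2k+2}(q)`
-/

set_option autoImplicit false
set_option linter.unusedSectionVars false

open QuadraticMap Module CfsgLib.Orth CfsgLib.Classical CfsgLib.Schur.OddOrth

namespace CfsgLib.Schur.MinusOrth

universe u

variable {F : Type u} [Field F] [Fintype F]

/-- The multiplier in characteristic two, given that perfect central extensions are trivial. -/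
theorem multiplier_even [CharP F 2] {k : ℕ} (hk : 3 ≤ k) {a b : F}
    (hab : ∀ z₁ z₂ : F, z₁ ^ 2 + a * z₁ * z₂ + b * z₂ ^ 2 = 0 → z₁ = 0 ∧ z₂ = 0)
    (hbound : ∀ (E : Type u) [Group E], commutator E = ⊤ →
      ∀ ξ : E →* ↥(commutator (orthGroup (minusForm F k a b))), Function.Surjective ξ →
      ξ.ker ≤ Subgroup.center E → ξ.ker = ⊥) :
    Cfsg.HasCyclicSchurMultiplier (Cfsg.POmega F (Cfsg.quadFormMinus k F a b))
      (Nat.gcd 4 (Fintype.card F ^ (k + 1) + 1)) := by
  classical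
  set Q := minusForm F k a b with hQdef
  have hQ : (QuadraticMap.polarBilin Q).Nondegenerate := minusForm_nondeg k a b hab
  have hn : finrank F ((Fin k ⊕ Fin k) ⊕ Fin 2 → F) = 2 * k + 2 := by
    simp [Module.finrank_pi]; ring
  have h4 : Good F ((Fin k ⊕ Fin k) ⊕ Fin 2 → F) := good_of (Or.inr (by omega))
  have hp := hypPairs_minus (F := F) k (by omega) a b
  haveI : Finite (orthGroup Q) :=
    Finite.of_injective (fun g => (g.1 : ((Fin k ⊕ Fin k) ⊕ Fin 2 → F) → _))
      (DFunLike.coe_injective.comp Subtype.val_injective)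
  have hG : commutator ↥(commutator (orthGroup Q)) = ⊤ := by
    rw [eq_top_iff, _root_.commutator_def ↥(commutator (orthGroup Q)), ← Subgroup.map_subtype_le_map_subtype, Subgroup.map_commutator,
      ← MonoidHom.range_eq_map, Subgroup.range_subtype]
    exact CfsgLib.Classical.commutator_perfect hQ h4 hp (by omega)
  have hodd : ¬ Nat.gcd 4 (Fintype.card F ^ (k + 1) + 1) ≠ 1 := by
    intro h
    obtain ⟨j, hj⟩ : 2 ∣ Fintype.card F := Nat.dvd_of_mod_eq_zero (FiniteField.even_card_of_char_two (ringChar.eq F 2))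
    obtain ⟨p, hp', hpd⟩ := Nat.exists_prime_and_dvd h
    have h2 : p = 2 := (Nat.prime_dvd_prime_iff_eq hp' Nat.prime_two).1
      (hp'.dvd_of_dvd_pow (n := 2) ((hpd.trans (Nat.gcd_dvd_left _ _)).trans (by norm_num)))
    subst h2
    have h3 : 2 ∣ Fintype.card F ^ (k + 1) := dvd_pow ⟨j, hj⟩ (by omega)
    have h5 := hpd.trans (Nat.gcd_dvd_right _ _)
    omega
  rw [not_not.1 hodd]
  have hc : Nat.card (Subgroup.center ↥(commutator (orthGroup Q))) = 1 := card_center_two hQ h4 (by omega) hp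
  have hid : Cfsg.IsStemExtension (MonoidHom.id ↥(commutator (orthGroup Q))) :=
    ⟨Function.surjective_id, by rw [MonoidHom.ker_id]; exact bot_le, by rw [MonoidHom.ker_id]; exact bot_le⟩
  haveI : Subsingleton (Subgroup.center ↥(commutator (orthGroup Q))) := (Nat.card_eq_one_iff_unique.1 hc).1
  haveI : IsCyclic (Subgroup.center ↥(commutator (orthGroup Q))) := isCyclic_of_subsingleton
  exact Basic.hasSchurMultiplier_of_mulEquiv (centerQuot (omegaEquiv Q (minusForm_apply k a b)).symm)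
    (hasSchurMultiplier_center_quotient hG (MonoidHom.id ↥(commutator (orthGroup Q))) hid (fun E _ hE ξ hs hkE => by
      rw [hbound E hE ξ hs hkE, MonoidHom.ker_id]
      exact ⟨inferInstance, by simp⟩)
      (mulEquivOfCyclicCardEq (by rw [hc, Nat.card_congr Multiplicative.toAdd, Nat.card_zmod])))

/-- Forms correspond under a field isomorphism. -/
theorem transfer {p : ℕ} [Fact p.Prime] {k : ℕ} (φ : ZMod p ≃+* F) {a b : F}
    (hab : ∀ z₁ z₂ : F, z₁ ^ 2 + a * z₁ * z₂ + b * z₂ ^ 2 = 0 → z₁ = 0 ∧ z₂ = 0) :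
    (∀ z₁ z₂ : ZMod p, z₁ ^ 2 + φ.symm a * z₁ * z₂ + φ.symm b * z₂ ^ 2 = 0 → z₁ = 0 ∧ z₂ = 0) ∧
      Nonempty (Cfsg.POmega (ZMod p) (Cfsg.quadFormMinus k (ZMod p) (φ.symm a) (φ.symm b)) ≃*
        Cfsg.POmega F (Cfsg.quadFormMinus k F a b)) := by
  refine ⟨fun z₁ z₂ h => ?_, pomega_congrField φ fun v => ?_⟩
  · have h' := congrArg φ h
    simp only [map_add, map_mul, map_pow, RingEquiv.apply_symm_apply, map_zero] at h'
    obtain ⟨h1, h2⟩ := hab _ _ h'
    exact ⟨φ.injective (by rw [h1, map_zero]), φ.injective (by rw [h2, map_zero])⟩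
  · simp [Cfsg.quadFormMinus, map_sum]

/-- The multiplier. -/
theorem hasCyclicSchurMultiplier {k : ℕ} (hk : 3 ≤ k) (a b : F)
    (hab : ∀ z₁ z₂ : F, z₁ ^ 2 + a * z₁ * z₂ + b * z₂ ^ 2 = 0 → z₁ = 0 ∧ z₂ = 0) :
    Cfsg.HasCyclicSchurMultiplier (Cfsg.POmega F (Cfsg.quadFormMinus k F a b))
      (Nat.gcd 4 (Fintype.card F ^ (k + 1) + 1)) := by
  classical
  by_cases h2 : (2 : F) = 0
  · haveI : CharP F 2 := CharTwo.of_one_ne_zero_of_two_eq_zero one_ne_zero h2
    by_cases hex : Fintype.card F = 2 ∧ k = 3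
    · obtain ⟨hF, rfl⟩ := hex
      obtain ⟨hab', ⟨e⟩⟩ := transfer (k := 3) (ZMod.ringEquivOfPrime F Nat.prime_two hF) hab
      have hval : ∀ a b : ZMod 2, (∀ z₁ z₂ : ZMod 2, z₁ ^ 2 + a * z₁ * z₂ + b * z₂ ^ 2 = 0 → z₁ = 0 ∧ z₂ = 0) →
          a = 1 ∧ b = 1 := by decide
      obtain ⟨ea, eb⟩ := hval _ _ hab'
      rw [ea, eb] at hab' e
      have h := multiplier_even le_rfl hab' fun E _ hE ξ hs hkE => Two.ker_eq_bot hE ξ hs hkE
      rw [ZMod.card] at h
      rw [hF]
      exact Basic.hasSchurMultiplier_of_mulEquiv e h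
    · exact multiplier_even hk hab fun E _ hE ξ hs hkE =>
        ker_eq_bot_even hab hk (fun hF => by
          by_contra hlt
          exact hex ⟨hF, by omega⟩) hE ξ hs hkE
  · by_cases hex : Fintype.card F = 3 ∧ k = 3
    · obtain ⟨hF, rfl⟩ := hex
      obtain ⟨hab', ⟨e⟩⟩ := transfer (k := 3) (ZMod.ringEquivOfPrime F Nat.prime_three hF) hab
      have h := multiplier_odd le_rfl hab' (by decide) fun E _ hE ξ hs hkE => Three.card_ker_le_two hab' hE ξ hs hkE
      rw [ZMod.card] at h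
      rw [hF]
      exact Basic.hasSchurMultiplier_of_mulEquiv e h
    · exact multiplier_odd hk hab h2 fun E _ hE ξ hs hkE =>
        card_ker_le_two hab h2 hk (fun hF => by
          by_contra hlt
          exact hex ⟨hF, by omega⟩) hE ξ hs hkE

end CfsgLib.Schur.MinusOrth
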