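import Cfsg.Agent.Lib.Schur.MinusOrth.General
import Cfsg.Agent.Lib.Schur.OddOrth.Main
import Cfsg.Agent.Lib.Classical.OrthPOmega

/-!
# The stabilizer of a norm one vector in `Ω⁻_{2k+2}(q)`, `q` odd, is `Ω_{2k+1}(q)`
-/

set_option autoImplicit false
set_option linter.unusedSectionVars false

open QuadraticMap Module CfsgLib.Orth CfsgLib.Classical CfsgLib.Schur.OddOrth

namespace CfsgLib.Schur.MinusOrth

universe u v

variable {F : Type u} [Field F]

/-- The odd space inside the minus space. -/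
def oddIncl (k : ℕ) (a b : F) : (Unit ⊕ (Fin k ⊕ Fin k) → F) →ₗ[F] ((Fin k ⊕ Fin k) ⊕ Fin 2 → F) where
  toFun w := Sum.elim (Sum.elim (fun i => (4 * b - a ^ 2) * w (.inr (.inl i))) (fun i => w (.inr (.inr i))))
    ![a * w (.inl ()), -(2 * w (.inl ()))]
  map_add' u w := by
    funext x
    rcases x with (i | i) | j
    · simp [mul_add]
    · simp
    · fin_cases j <;> simp <;> ring
  map_smul' c w := by
    funext x
    rcases x with (i | i) | j
    · simp; ring
    · simp
    · fin_cases j <;> simp <;> ring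

theorem minusForm_oddIncl (k : ℕ) (a b : F) (w : Unit ⊕ (Fin k ⊕ Fin k) → F) :
    minusForm F k a b (oddIncl k a b w) = (4 * b - a ^ 2) * oddForm F k w := by
  rw [← minusForm_apply, ← oddForm_apply]
  simp only [Cfsg.quadFormMinus, Cfsg.quadFormOdd, oddIncl, LinearMap.coe_mk, AddHom.coe_mk, Sum.elim_inl,
    Sum.elim_inr, Matrix.cons_val_zero, Matrix.cons_val_one, mul_assoc, ← Finset.mul_sum]
  ring

theorem disc_not_square {a b : F} (hab : ∀ z₁ z₂ : F, z₁ ^ 2 + a * z₁ * z₂ + b * z₂ ^ 2 = 0 → z₁ = 0 ∧ z₂ = 0)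
    (h2 : (2 : F) ≠ 0) : ¬ IsSquare (a ^ 2 - 4 * b) := by
  rintro ⟨d, hd⟩
  have h := hab ((d - a) / 2) 1 (by field_simp; linear_combination -hd)
  exact one_ne_zero h.2

theorem disc_ne_zero {a b : F} (hab : ∀ z₁ z₂ : F, z₁ ^ 2 + a * z₁ * z₂ + b * z₂ ^ 2 = 0 → z₁ = 0 ∧ z₂ = 0)
    (h2 : (2 : F) ≠ 0) : 4 * b - a ^ 2 ≠ 0 := fun h =>
  disc_not_square hab h2 ⟨0, by linear_combination -h⟩

section Scale

variable {V : Type*} [AddCommGroup V] [Module F V]

theorem orthGroup_smul {Q : QuadraticForm F V} {c : F} (hc : c ≠ 0) : orthGroup (c • Q) = orthGroup Q := by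
  ext g
  show (∀ v, (c • Q) (g v) = (c • Q) v) ↔ ∀ v, Q (g v) = Q v
  refine forall_congr' fun v => ?_
  simp [hc]

/-- The orthogonal groups of proportional forms. -/
def scaleEquiv (Q : QuadraticForm F V) {c : F} (hc : c ≠ 0) : orthGroup Q ≃* orthGroup (c • Q) :=
  MulEquiv.subgroupCongr (orthGroup_smul hc).symm

theorem polar_smul_form (Q : QuadraticForm F V) (c : F) (x y : V) : polar (c • Q) x y = c * polar Q x y := by
  simp [polar, mul_sub]

theorem scaleEquiv_refl (Q : QuadraticForm F V) {c : F} (hc : c ≠ 0) (x : V) :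
    scaleEquiv Q hc (refl Q x) = refl (c • Q) x := by
  refine Subtype.ext (LinearEquiv.ext fun v => ?_)
  show (refl Q x).1 v = (refl (c • Q) x).1 v
  rw [refl_apply, refl_apply, polar_smul_form, QuadraticMap.smul_apply, smul_eq_mul, mul_inv,
    show c⁻¹ * (Q x)⁻¹ * (c * polar Q x v) = c⁻¹ * c * ((Q x)⁻¹ * polar Q x v) by ring,
    inv_mul_cancel₀ hc, one_mul]

theorem nondeg_smul [FiniteDimensional F V] {Q : QuadraticForm F V} (hQ : (QuadraticMap.polarBilin Q).Nondegenerate) {c : F}
    (hc : c ≠ 0) : (QuadraticMap.polarBilin (c • Q)).Nondegenerate :=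
  nondegenerate_of_left fun v hv => eq_zero_of_polar hQ fun w => by
    have h := hv w
    rw [polar_smul_form] at h
    exact (mul_eq_zero.1 h).resolve_left hc

theorem mem_commutator_of_iso {G H : Type*} [Group G] [Group H] (e : G ≃* H) (g : G) :
    e g ∈ commutator H ↔ g ∈ commutator G := by
  have h : (commutator G).map e.toMonoidHom = commutator H := by
    rw [_root_.commutator_def, Subgroup.map_commutator, Subgroup.map_top_of_surjective _ e.surjective,
      _root_.commutator_def]
  rw [← h]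
  exact Subgroup.mem_map_iff_mem (f := e.toMonoidHom) e.injective

end Scale

variable [Fintype F] {k : ℕ} {a b : F}
  (hab : ∀ z₁ z₂ : F, z₁ ^ 2 + a * z₁ * z₂ + b * z₂ ^ 2 = 0 → z₁ = 0 ∧ z₂ = 0) (h2 : (2 : F) ≠ 0)
include hab h2

/-- The stabilizer. -/
theorem exists_stab (v0 : Pt (minusForm F k a b)) (hv0 : v0.1 = Pi.single (Sum.inr 0) 1) :
    ∃ (J : orthGroup (oddForm F k) →* orthGroup (minusForm F k a b))
      (J' : ↥(commutator (orthGroup (oddForm F k))) →* ↥(commutator (orthGroup (minusForm F k a b)))),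
      (∀ g, (J' g).1 = J g.1) ∧ (∀ x, J (refl (oddForm F k) x) = refl (minusForm F k a b) (oddIncl k a b x)) ∧
      Function.Injective J' ∧ J'.range = MulAction.stabilizer ↥(commutator (orthGroup (minusForm F k a b))) v0 := by
  classical
  have hd := disc_ne_zero hab h2
  have hQ : (QuadraticMap.polarBilin (minusForm F k a b)).Nondegenerate := minusForm_nondeg k a b hab
  set T := oddIncl k a b
  set R := (4 * b - a ^ 2) • oddForm F k with hRdef
  have hT : ∀ w, (minusForm F k a b) (T w) = R w := fun w => by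
    rw [hRdef, QuadraticMap.smul_apply, smul_eq_mul]
    exact minusForm_oddIncl k a b w
  have hR : (QuadraticMap.polarBilin R).Nondegenerate := nondeg_smul (oddForm_nondeg k h2) hd
  have hperp0 : ∀ w, polar (minusForm F k a b) v0.1 (T w) = 0 := fun w => by
    rw [minusForm_polar, hv0]
    simp [T, oddIncl, Pi.single_apply]
    ring
  have hperp : ∀ z, (∀ w, polar (minusForm F k a b) z (T w) = 0) → z = z (Sum.inr 0) • v0.1 := by
    intro z hz
    have hz' := fun w => (minusForm_polar k a b z (T w)).symm.trans (hz w)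
    have e1 : ∀ i, z (.inl (.inl i)) = 0 := fun i => by
      simpa [T, oddIncl, Pi.single_apply] using hz' (Pi.single (Sum.inr (Sum.inr i)) 1)
    have e2 : ∀ i, z (.inl (.inr i)) = 0 := fun i => by
      have h := hz' (Pi.single (Sum.inr (Sum.inl i)) 1)
      simp [T, oddIncl, Pi.single_apply] at h
      exact h.resolve_right hd
    have e3 : z (.inr 1) = 0 := by
      have h := hz' (Pi.single (Sum.inl ()) 1)
      simp [T, oddIncl, Pi.single_apply] at h
      have h' : z (.inr 1) * (a ^ 2 - 4 * b) = 0 := by linear_combination h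
      exact (mul_eq_zero.1 h').resolve_right fun e => hd (by linear_combination -e)
    funext x
    rw [hv0]
    rcases x with (i | i) | j
    · simpa using e1 i
    · simpa using e2 i
    · fin_cases j
      · simp
      · simpa using e3
  obtain ⟨J, hJT, hJfix, hJrefl, hJsurj⟩ := exists_embHom T hT hR hQ
  have hiff := embHom_mem_commutator_iff T hT hR h2 hQ J hJrefl
  let e := scaleEquiv (oddForm F k) hd
  let J0 : orthGroup (oddForm F k) →* orthGroup (minusForm F k a b) := J.comp e.toMonoidHom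
  have hiff0 : ∀ g, J0 g ∈ commutator (orthGroup (minusForm F k a b)) ↔ g ∈ commutator (orthGroup (oddForm F k)) := fun g =>
    (hiff (e g)).trans (mem_commutator_of_iso e g)
  let J' : ↥(commutator (orthGroup (oddForm F k))) →* ↥(commutator (orthGroup (minusForm F k a b))) :=
    (J0.comp (commutator (orthGroup (oddForm F k))).subtype).codRestrict _ fun g => (hiff0 g.1).2 g.2
  refine ⟨J0, J', fun g => rfl, fun x => ?_, ?_, ?_⟩
  · show J (e (refl (oddForm F k) x)) = _
    rw [scaleEquiv_refl, hJrefl]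
  · rw [injective_iff_map_eq_one]
    intro g hg
    have hTinj : Function.Injective T := by
      rw [← LinearMap.ker_eq_bot, LinearMap.ker_eq_bot']
      exact fun w hw => eq_zero_of_polar hR fun x => by
        rw [← polar_T T hT, hw, polar_zero_left (Q := minusForm F k a b)]
    refine Subtype.ext (Subtype.ext (LinearEquiv.ext fun w => hTinj ?_))
    have h1 : (J0 g.1).1 (T w) = T w := by
      rw [show J0 g.1 = 1 from congrArg Subtype.val hg]; rfl
    rw [show J0 g.1 = J (e g.1) from rfl, hJT] at h1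
    exact h1
  · ext h
    constructor
    · rintro ⟨g, rfl⟩
      exact Subtype.ext (hJfix _ v0.1 hperp0)
    · intro hh
      have hh' : h.1.1 v0.1 = v0.1 := congrArg Subtype.val hh
      obtain ⟨g, hg⟩ := hJsurj h.1 fun z hz => by
        rw [hperp z hz, map_smul, hh']
      have hg' : J0 (e.symm g) = h.1 := by
        show J (e (e.symm g)) = h.1
        rw [MulEquiv.apply_symm_apply, hg]
      exact ⟨⟨e.symm g, (hiff0 _).1 (hg' ▸ h.2)⟩, Subtype.ext hg'⟩

/-- A perfect subgroup over the stabilizer contains the kernel. -/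
theorem exists_sub (hk : 3 ≤ k) {E : Type v} [Group E] (hE : commutator E = ⊤)
    (ξ : E →* ↥(commutator (orthGroup (minusForm F k a b)))) (hs : Function.Surjective ξ)
    (hkE : ξ.ker ≤ Subgroup.center E)
    (J' : ↥(commutator (orthGroup (oddForm F k))) →* ↥(commutator (orthGroup (minusForm F k a b))))
    (hJi : Function.Injective J') (v0 : Pt (minusForm F k a b))
    (hJr : J'.range = MulAction.stabilizer ↥(commutator (orthGroup (minusForm F k a b))) v0) :
    ∃ (M : Subgroup E) (τ : M →* ↥(commutator (orthGroup (oddForm F k)))),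
      (∀ m, J' (τ m) = ξ m) ∧ commutator M = ⊤ ∧ Function.Surjective τ ∧ τ.ker ≤ Subgroup.center M ∧
        ξ.ker ≤ M := by
  classical
  have hQ : (QuadraticMap.polarBilin (minusForm F k a b)).Nondegenerate := minusForm_nondeg k a b hab
  have hn : finrank F ((Fin k ⊕ Fin k) ⊕ Fin 2 → F) = 2 * k + 2 := by
    simp [Module.finrank_pi]; ring
  let e := MonoidHom.ofInjective hJi
  let N := J'.range.comap ξ
  let η : N →* ↥(commutator (orthGroup (oddForm F k))) :=
    e.symm.toMonoidHom.comp ((ξ.comp N.subtype).codRestrict J'.range fun x => x.2)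
  have hη : ∀ x : N, J' (η x) = ξ x := fun x => by
    show J' (e.symm _) = _
    rw [MonoidHom.apply_ofInjective_symm]
    rfl
  have hηs : Function.Surjective η := fun g => by
    obtain ⟨x, hx⟩ := hs (J' g)
    exact ⟨⟨x, ⟨g, hx.symm⟩⟩, hJi (by rw [hη]; exact hx)⟩
  have hηk : η.ker ≤ Subgroup.center N := fun x hx => by
    have h1 : (x : E) ∈ ξ.ker := by
      rw [MonoidHom.mem_ker, ← hη, MonoidHom.mem_ker.1 hx, map_one]
    exact Subgroup.mem_center_iff.2 fun y => Subtype.ext (Subgroup.mem_center_iff.1 (hkE h1) y)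
  obtain ⟨hmap, hperf⟩ := derived_spec (perfect_commutator (oddForm_nondeg (F := F) k h2) h2 (by
    simp [Module.finrank_pi]; omega)) η hηs hηk
  let M := (commutator N).map N.subtype
  let f : commutator N ≃* M := (commutator N).equivMapOfInjective N.subtype N.subtype_injective
  let τ : M →* ↥(commutator (orthGroup (oddForm F k))) :=
    (η.comp (commutator N).subtype).comp f.symm.toMonoidHom
  have hτ : ∀ m : M, J' (τ m) = ξ m := fun m => by
    obtain ⟨x, rfl⟩ := f.surjective m
    show J' (η (f.symm (f x)).1) = ξ ((f x : M) : E)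
    rw [MulEquiv.symm_apply_apply, hη]
    rfl
  have hMmap : M.map ξ = MulAction.stabilizer ↥(commutator (orthGroup (minusForm F k a b))) v0 := by
    rw [← hJr]
    ext h
    constructor
    · rintro ⟨_, ⟨x, -, rfl⟩, rfl⟩
      exact x.2
    · rintro ⟨g, rfl⟩
      obtain ⟨x, hx, hxg⟩ : g ∈ (commutator N).map η := hmap ▸ Subgroup.mem_top g
      exact ⟨x, ⟨x, hx, rfl⟩, by rw [← hη, hxg]⟩
  refine ⟨M, τ, hτ, ?_, fun g => ?_, fun m hm => ?_, ker_le_of_graph hMmap hkE
    (orthGraph hQ h2 (by rw [hn]; omega) (fun _ => by rw [hn]; omega) v0) hs hE⟩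
  · exact commutator_eq_top hperf f.symm.toMonoidHom f.symm.surjective (by
      rw [(MonoidHom.ker_eq_bot_iff f.symm.toMonoidHom).2 f.symm.injective]; exact bot_le)
  · obtain ⟨x, hx, rfl⟩ : g ∈ (commutator N).map η := hmap ▸ Subgroup.mem_top g
    exact ⟨f ⟨x, hx⟩, by
      show η (f.symm (f ⟨x, hx⟩)).1 = η x
      rw [MulEquiv.symm_apply_apply]⟩
  · have h1 : (m : E) ∈ ξ.ker := by
      rw [MonoidHom.mem_ker, ← hτ, MonoidHom.mem_ker.1 hm, map_one]
    exact Subgroup.mem_center_iff.2 fun y => Subtype.ext (Subgroup.mem_center_iff.1 (hkE h1) y)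

/-- The bound away from `Ω₈⁻(3)`. -/
theorem card_ker_le_two (hk : 3 ≤ k) (h3 : Fintype.card F = 3 → 4 ≤ k) {E : Type v} [Group E]
    (hE : commutator E = ⊤) (ξ : E →* ↥(commutator (orthGroup (minusForm F k a b))))
    (hs : Function.Surjective ξ) (hkE : ξ.ker ≤ Subgroup.center E) :
    Finite ξ.ker ∧ Nat.card ξ.ker ≤ 2 := by
  classical
  let v0 : Pt (minusForm F k a b) := ⟨Pi.single (Sum.inr 0) 1, by
    rw [← minusForm_apply]; simp [Cfsg.quadFormMinus, Pi.single_apply]⟩
  obtain ⟨J, J', -, -, hJi, hJr⟩ := exists_stab hab h2 v0 rfl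
  obtain ⟨M, τ, hτ, hM, hτs, hτk, hle⟩ := exists_sub hab h2 hk hE ξ hs hkE J' hJi v0 hJr
  obtain ⟨c, hc, hcle⟩ := OddOrth.card_ker_le_two hk h3 h2 hM τ hτs hτk
  have hsub : ξ.ker ≤ Subgroup.zpowers (c : E) := fun x hx => by
    have h1 : (⟨x, hle hx⟩ : M) ∈ τ.ker := hJi (by rw [hτ, map_one]; exact hx)
    obtain ⟨n, hn⟩ := Subgroup.mem_zpowers_iff.1 (hcle h1)
    exact ⟨n, by simpa using congrArg Subtype.val hn⟩
  have hc' : (c : E) * c = 1 := congrArg Subtype.val hc
  haveI : Finite (Subgroup.zpowers (c : E)) :=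
    (isOfFinOrder_iff_pow_eq_one.2 ⟨2, two_pos, by rw [pow_two, hc']⟩).finite_zpowers
  refine ⟨Finite.of_injective _ (Subgroup.inclusion_injective hsub), ?_⟩
  refine (Subgroup.card_le_of_le hsub).trans ?_
  rw [Nat.card_zpowers]
  exact orderOf_le_of_pow_eq_one two_pos (by rw [pow_two, hc'])

end CfsgLib.Schur.MinusOrth
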